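import Cfsg.Agent.Lib.U5F.U
import Cfsg.Agent.Lib.Core.Basic

/-! # S5258: orders -/

set_option autoImplicit false

namespace Cfsg.Lib.U5F

open Subgroup

variable {K : Type*} [Field K] [Bar K]

open U
open scoped commutatorElement

theorem exists_coord {H : Subgroup (U K)} {π : U K → K} (hπ : ∀ x ∈ H, ∀ y ∈ H, π (x * y) = π x + π y) :
    ∃ L : Subgroup (U K), (∀ x, x ∈ L ↔ x ∈ H ∧ π x = 0) ∧
      Nat.card H = Nat.card (π '' (H : Set (U K))) * Nat.card L := by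
  let φ : H →* Multiplicative K :=
    MonoidHom.mk' (fun x => Multiplicative.ofAdd (π x)) fun x y => by
      rw [← ofAdd_add, ← hπ _ x.2 _ y.2]; rfl
  refine ⟨φ.ker.map H.subtype, fun x => ⟨?_, fun h => ⟨⟨x, h.1⟩, ?_, rfl⟩⟩, ?_⟩
  · rintro ⟨y, hy, rfl⟩
    exact ⟨y.2, ofAdd_eq_one.1 hy⟩
  · exact ofAdd_eq_one.2 h.2
  · rw [Subgroup.card_map_of_injective H.subtype_injective,
      Subgroup.card_eq_card_quotient_mul_card_subgroup φ.ker,
      Nat.card_congr (QuotientGroup.quotientKerEquivRange φ).toEquiv]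
    congr 1
    refine Nat.card_congr ⟨fun t => ⟨Multiplicative.toAdd t.1, ?_⟩, fun t => ⟨Multiplicative.ofAdd t.1, ?_⟩,
      fun t => rfl, fun t => rfl⟩
    · obtain ⟨_, x, rfl⟩ := t
      exact ⟨x, x.2, rfl⟩
    · obtain ⟨_, x, hx, rfl⟩ := t
      exact ⟨⟨x, hx⟩, rfl⟩

theorem card_eq_of_coord {H L : Subgroup (U K)} {π : U K → K}
    (hπ : ∀ x ∈ H, ∀ y ∈ H, π (x * y) = π x + π y) {X : Set K} (hX : ∀ t, t ∈ X ↔ ∃ x ∈ H, π x = t)
    (hL : ∀ x, x ∈ L ↔ x ∈ H ∧ π x = 0) : Nat.card H = Nat.card X * Nat.card L := by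
  obtain ⟨L', h1, h2⟩ := exists_coord hπ
  have e1 : L' = L := Subgroup.ext fun x => (h1 x).trans (hL x).symm
  have e2 : π '' (H : Set (U K)) = X := Set.ext fun t => (hX t).symm
  rw [h2, e1, e2]

theorem card_skew' : Nat.card {x : K | x + σ x = 0} = qq K := isb.card_trace_zero
theorem card_univ' : Nat.card (Set.univ : Set K) = qq K ^ 2 := by
  rw [Nat.card_congr (Equiv.Set.univ K), isb.card]

theorem step_z : Nat.card (sZ K) = qq K := by
  rw [card_eq_of_coord (H := sZ K) (L := ⊥) (π := U.z) (X := {x : K | x + σ x = 0})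
    (fun x ⟨h1, h2, h3, h4, h5⟩ y _ => by simp [*]) (fun t => ⟨fun ht => ⟨⟨0, 0, 0, 0, 0, t, by simp, by
      simpa using ht⟩, ⟨rfl, rfl, rfl, rfl, rfl⟩, rfl⟩, ?_⟩) (fun x => ⟨?_, ?_⟩), card_skew', Subgroup.card_bot,
    mul_one]
  · rintro ⟨x, ⟨h1, h2, h3, h4, h5⟩, rfl⟩
    simpa [*] using x.hz
  · rintro rfl
    exact ⟨one_mem _, rfl⟩
  · rintro ⟨⟨h1, h2, h3, h4, h5⟩, h6⟩
    exact mem_bot.2 (U.ext h1 h2 h3 h4 h5 h6)

theorem step_f : Nat.card (sY K) = qq K ^ 2 * Nat.card (sZ K) := by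
  rw [card_eq_of_coord (H := sY K) (L := sZ K) (π := U.f) (X := Set.univ)
    (fun x hx y _ => by simp [(mem_sY.1 hx).1, (mem_sY.1 hx).2.2.2]) (fun t => ⟨fun _ => ?_, fun _ => trivial⟩)
    (fun x => by simp [and_assoc]), card_univ']
  obtain ⟨x, h1, h2, h3, h4, h5⟩ := exists_mk (0 : K) 0 0 t (c := 0) (by simp)
  exact ⟨x, mem_sY.2 ⟨h1, h2, h3, h4⟩, h5⟩

theorem step_c : Nat.card (sV K) = qq K * Nat.card (sY K) := by
  rw [card_eq_of_coord (H := sV K) (L := sY K) (π := U.c) (X := {x : K | x + σ x = 0})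
    (fun x hx y _ => by simp [hx.2.1]) (fun t => ⟨fun ht => ?_, ?_⟩)
    (fun x => by simp only [mem_sY, mem_sV]; tauto), card_skew']
  · obtain ⟨x, h1, h2, h3, h4, h5⟩ := exists_mk (0 : K) 0 0 0 (c := t) (by simpa using ht)
    exact ⟨x, ⟨h1, h2, h4⟩, h3⟩
  · rintro ⟨x, hx, rfl⟩
    simpa [hx.2.1] using x.hc

theorem step_d : Nat.card (sD K) = qq K ^ 2 * Nat.card (sV K) := by
  rw [card_eq_of_coord (H := sD K) (L := sV K) (π := U.d) (X := Set.univ)
    (fun x hx y _ => by simp [(mem_sD.1 hx).1]) (fun t => ⟨fun _ => ?_, fun _ => trivial⟩)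
    (fun x => by simp [and_assoc]), card_univ']
  obtain ⟨x, h1, h2, h3, h4, h5⟩ := exists_mk (0 : K) 0 t 0 (c := 0) (by simp)
  exact ⟨x, ⟨h1, h2⟩, h4⟩

theorem step_b : Nat.card (Q2 K) = qq K ^ 2 * Nat.card (sD K) := by
  rw [card_eq_of_coord (H := Q2 K) (L := sD K) (π := U.b) (X := Set.univ)
    (fun x hx y _ => rfl) (fun t => ⟨fun _ => ?_, fun _ => trivial⟩)
    (fun x => by simp), card_univ']
  obtain ⟨c, hc⟩ := exists_c t
  obtain ⟨x, h1, h2, h3, h4, h5⟩ := exists_mk (0 : K) t 0 0 hc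
  exact ⟨x, h1, h2⟩

theorem step_a : Nat.card (U K) = qq K ^ 2 * Nat.card (Q2 K) := by
  rw [← Subgroup.card_top, card_eq_of_coord (H := ⊤) (L := Q2 K) (π := U.a) (X := Set.univ)
    (fun x hx y _ => rfl) (fun t => ⟨fun _ => ?_, fun _ => trivial⟩)
    (fun x => by simp), card_univ']
  obtain ⟨x, h1, h2, h3, h4, h5⟩ := exists_mk t 0 0 0 (c := 0) (by simp)
  exact ⟨x, trivial, h1⟩

theorem step_P : Nat.card (sP K) = qq K ^ 2 * Nat.card (sY K) := by
  rw [card_eq_of_coord (H := sP K) (L := sY K) (π := U.d) (X := Set.univ)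
    (fun x hx y _ => by simp [(mem_sP.1 hx).1]) (fun t => ⟨fun _ => ?_, fun _ => trivial⟩)
    (fun x => by simp [and_assoc]), card_univ']
  obtain ⟨x, h1, h2, h3, h4, h5⟩ := exists_mk (0 : K) 0 t 0 (c := 0) (by simp)
  exact ⟨x, mem_sP.2 ⟨h1, h2, h3⟩, h4⟩

theorem step_Q1 : Nat.card (Q1 K) = qq K ^ 2 * Nat.card (sP K) := by
  rw [card_eq_of_coord (H := Q1 K) (L := sP K) (π := U.a) (X := Set.univ)
    (fun x hx y _ => rfl) (fun t => ⟨fun _ => ?_, fun _ => trivial⟩)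
    (fun x => by simp only [mem_sP, mem_Q1]; tauto), card_univ']
  obtain ⟨x, h1, h2, h3, h4, h5⟩ := exists_mk t 0 0 0 (c := 0) (by simp)
  exact ⟨x, ⟨h2, h3⟩, h1⟩

theorem cm_one {x y : U K} (h : x * y = y * x) : ⁅x, y⁆ = 1 := commutatorElement_eq_one_iff_mul_comm.2 h

theorem eq_zero_of_line {u : K} (h : ∀ t : K, u * σ t = t * σ u) : u = 0 := by
  obtain ⟨t, ht⟩ := (isb (K := K)).exists_ne
  have h1 := h 1
  rw [map_one, mul_one, one_mul] at h1
  have h2 := h t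
  rw [← h1] at h2
  exact (mul_eq_zero.1 (show u * (σ t - t) = 0 by linear_combination h2)).resolve_right (sub_ne_zero.2 ht)

/-- The centre of `Q1`. -/
theorem mem_sZ_of_Q1 {u : U K} (hu : u ∈ Q1 K) (h : ∀ w ∈ Q1 K, w * u = u * w) : u ∈ sZ K := by
  have key : ∀ a d f : K, a * σ u.f + d * σ u.d + f * σ u.a = u.a * σ f + u.d * σ d + u.f * σ a := by
    intro a d f
    obtain ⟨w, h1, h2, h3, h4, h5⟩ := exists_mk a 0 d f (c := 0) (by simp)
    have := congrArg U.z (h w ⟨h2, h3⟩)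
    simp only [mul_z, h1, h2, h3, h4, h5, hu.1, hu.2, map_zero] at this
    linear_combination -this
  refine ⟨eq_zero_of_line fun t => ?_, hu.1, hu.2, eq_zero_of_line fun t => ?_, eq_zero_of_line fun t => ?_⟩
  · simpa using (key 0 0 t).symm
  · simpa using (key 0 t 0).symm
  · simpa using (key t 0 0).symm

theorem qq_lt {m n : ℕ} (h : m < n) : qq K ^ m < qq K ^ n :=
  Nat.pow_lt_pow_right (isb (K := K)).two_le h

/-- Coordinates `(a, b, d, f)`, `c` in a trace fibre, `z` in a trace fibre (`isb.card_trace_eq`); or the chain of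
subgroups `⊤ > Q2 > sD > sV > sY > sZ > ⊥` with the coordinate homomorphisms `a, b, d, c, f, z`. -/
theorem card_U : Nat.card (U K) = qq K ^ 10 := by
  rw [step_a, step_b, step_d, step_c, step_f, step_z]; ring
theorem card_sZ : Nat.card (sZ K) = qq K := by
  exact step_z
theorem card_sY : Nat.card (sY K) = qq K ^ 3 := by
  rw [step_f, step_z]; ring
theorem card_sV : Nat.card (sV K) = qq K ^ 4 := by
  rw [step_c, step_f, step_z]; ring
theorem card_sD : Nat.card (sD K) = qq K ^ 6 := by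
  rw [step_d, card_sV]; ring
theorem card_Q1 : Nat.card (Q1 K) = qq K ^ 7 := by
  rw [step_Q1, step_P, card_sY]; ring
theorem card_Q2 : Nat.card (Q2 K) = qq K ^ 8 := by
  rw [step_b, card_sD]; ring

/-- `q` is a power of the characteristic (`isb.card`, `FiniteField.card`). -/
theorem exists_qq (p : ℕ) [Fact p.Prime] [CharP K p] : ∃ n, qq K = p ^ (n + 1) := by
  have := Fintype.ofFinite K
  obtain ⟨r, f, hr, hc, h1, h2⟩ := Unitary.exists_prime_pow_of_card (F := K) (q := qq K)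
    (by rw [← Nat.card_eq_fintype_card, isb.card])
  have e : r = p := CharP.eq K hc ‹CharP K p›
  exact ⟨f - 1, by rw [h2, Nat.sub_add_cancel h1, e]⟩
theorem isPGroup_U (p : ℕ) [Fact p.Prime] [CharP K p] : IsPGroup p (U K) := by
  obtain ⟨n, hn⟩ := exists_qq (K := K) p
  exact IsPGroup.of_card (n := (n + 1) * 10) (by rw [card_U, hn, ← pow_mul])

/-- A coordinate `π`, additive on `H`, with values in `X` and kernel in `L`. -/
theorem card_le_of_coord {H L : Subgroup (U K)} {π : U K → K} (hπ : ∀ x ∈ H, ∀ y ∈ H, π (x * y) = π x + π y)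
    {X : Set K} (hX : ∀ x ∈ H, π x ∈ X) (hL : ∀ x ∈ H, π x = 0 → x ∈ L) :
    Nat.card H ≤ Nat.card X * Nat.card ↥(H ⊓ L) := by
  obtain ⟨L', h1, h2⟩ := exists_coord hπ
  rw [h2]
  refine Nat.mul_le_mul (Nat.card_mono (Set.toFinite _) ?_) (Subgroup.card_le_of_le fun x hx => ?_)
  · rintro _ ⟨x, hx, rfl⟩
    exact hX x hx
  · exact ⟨((h1 x).1 hx).1, hL x ((h1 x).1 hx).1 ((h1 x).1 hx).2⟩

/-- `k`-lines and their orthogonals have `q` elements (divide by `u`; `isb.card_fixed`, `isb.card_trace_zero`). -/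
theorem card_line {u : K} (hu : u ≠ 0) : Nat.card {x : K | x * σ u = u * σ x} = qq K := by
  have hu' : σ u ≠ 0 := fun h => hu (σ_eq_zero.1 h)
  rw [← (isb (K := K)).card_fixed]
  refine Nat.card_congr ⟨fun x => ⟨x.1 / u, ?_⟩, fun x => ⟨x.1 * u, ?_⟩, fun x => ?_, fun x => ?_⟩
  · have : x.1 * σ u = u * σ x.1 := x.2
    rw [map_div₀, div_eq_div_iff hu' hu]
    linear_combination -this
  · show x.1 * u * σ u = u * σ (x.1 * u)
    rw [map_mul, x.2]; ring
  · exact Subtype.ext (div_mul_cancel₀ _ hu)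
  · exact Subtype.ext (mul_div_cancel_right₀ _ hu)
theorem card_skew : Nat.card {x : K | x + σ x = 0} = qq K := by
  exact card_skew'
theorem card_univ : Nat.card (Set.univ : Set K) = qq K ^ 2 := by
  exact card_univ'

theorem mem_sY_of_comm {x m : U K} (hx : x ∈ sV K) (hm : m.a ≠ 0) (h : x * m = m * x) :
    x ∈ sY K ∧ x.f * σ m.a = m.a * σ x.f := by
  have h1 := cm_f_sD (x := x) ⟨hx.1, hx.2.1⟩ m
  rw [cm_one h, hx.2.2, one_f] at h1
  have hc : x.c = 0 :=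
    (mul_eq_zero.1 (show m.a * x.c = 0 by linear_combination h1)).resolve_left hm
  have hY : x ∈ sY K := mem_sY.2 ⟨hx.1, hx.2.1, hc, hx.2.2⟩
  have h2 := cm_z_sY hY m
  rw [cm_one h, one_z] at h2
  exact ⟨hY, by linear_combination h2⟩

theorem b_of_comm {x m : U K} (hx : x.a = 0) (hm : m.a ≠ 0) (h : x * m = m * x) : x.b = 0 := by
  have h1 := cm_d x m
  rw [cm_one h, hx, one_d] at h1
  exact (mul_eq_zero.1 (show m.a * x.b = 0 by linear_combination h1)).resolve_left hm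

theorem d_of_comm {x y : U K} (hx : x.a = 0) (hy : y.a = 0) (h : x * y = y * x) :
    x.d * σ y.d = y.d * σ x.d := by
  have h1 := cm_z_Q2 (mem_Q2.2 hx) (mem_Q2.2 hy)
  rw [cm_one h, one_z] at h1
  linear_combination h1

/-- `m.a ≠ 0`: an element `v ∈ sV` commuting with `m` has `c = 0` (`cm_f_sD`) and `f` on the line of `m.a` (`cm_z_sY`). -/
theorem card_le_sV {H : Subgroup (U K)} (hH : H ≤ sV K) {m : U K} (hm : m.a ≠ 0)
    (h : ∀ x ∈ H, x * m = m * x) : Nat.card H ≤ qq K ^ 2 := by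
  have h1 := card_le_of_coord (H := H) (L := sZ K) (π := U.f) (X := {x : K | x * σ m.a = m.a * σ x})
    (fun x hx y _ => by simp [(hH hx).1, (hH hx).2.2]) (fun x hx => (mem_sY_of_comm (hH hx) hm (h x hx)).2)
    (fun x hx h0 => by
      obtain ⟨h1, h2, h3, h4⟩ := mem_sY.1 (mem_sY_of_comm (hH hx) hm (h x hx)).1
      exact ⟨h1, h2, h3, h4, h0⟩)
  rw [card_line hm] at h1
  have h2 : Nat.card ↥(H ⊓ sZ K) ≤ qq K := card_sZ (K := K) ▸ Subgroup.card_le_of_le inf_le_right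
  calc _ ≤ _ := h1
    _ ≤ qq K * qq K := Nat.mul_le_mul_left _ h2
    _ = _ := by ring

/-- **Lemma V.**  Suppose `m ∈ M`, `m.a ≠ 0`; `#(M ⊓ sV) ≤ q²` for every such `m` central in `M`, `#(N ⊓ sV) ≤ q²`.
`N₂ = N ⊓ Q2` commutes with `m`, so lies in `sD` (`cm_d`), it is abelian, so its `d`-coordinates lie on a `k`-line
(`cm_z_Q2`): `#N₂ ≤ q · q²`.  So some `v ∈ N` has `v.a ≠ 0`; `M ⊓ Q2 ≤ sD`, `#M ≤ q² · #(M ⊓ sD)`,
`#(M ⊓ sD) ≤ #d(M ⊓ sD) · #(M ⊓ sV)`.  If some `v' ∈ N` has `v'.a` off the line of `v.a` then `M ⊓ sV ≤ sZ` and `#M ≤ q⁵`.  Else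
`#N ≤ q · #N₂`, so `#N₂ ≥ q³`, some `y ∈ N₂` has `y.d ≠ 0`, `d(M ⊓ sD)` lies on the line of `y.d`, `#M ≤ q² · q · q²`. -/
theorem le_Q2_of_card {M N : Subgroup (U K)} (hM : Nat.card M = qq K ^ 6) (hN : Nat.card N = qq K ^ 4)
    (hNM : N ≤ M) (h : ∀ x ∈ M, ∀ y ∈ N, x * y = y * x) : M ≤ Q2 K := by
  intro m hmM
  by_contra hm
  replace hm : m.a ≠ 0 := hm
  have hq : 0 < qq K := lt_of_lt_of_le two_pos (isb (K := K)).two_le
  -- subgroups of `N` inside `sV`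
  have hNV : ∀ H : Subgroup (U K), H ≤ N → H ≤ sV K → Nat.card H ≤ qq K ^ 2 := fun H h1 h2 =>
    card_le_sV h2 hm fun x hx => (h m hmM x (h1 hx)).symm
  have hNb : ∀ x ∈ N, x.a = 0 → x.b = 0 := fun x hx h0 => b_of_comm h0 hm (h m hmM x hx).symm
  have hd : ∀ (H : Subgroup (U K)) (y : U K), H ≤ M ⊓ sD K → y ∈ N → y.a = 0 → y.d ≠ 0 →
      Nat.card H ≤ qq K * Nat.card ↥(H ⊓ sV K) := fun H y hH hy h0 h1 => by
    have := card_le_of_coord (H := H) (L := sV K) (π := U.d) (X := {x : K | x * σ y.d = y.d * σ x})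
      (fun x hx y _ => by simp [(mem_sD.1 (hH hx).2).1])
      (fun x hx => d_of_comm (mem_sD.1 (hH hx).2).1 h0 (h x (hH hx).1 y hy))
      (fun x hx h2 => ⟨(mem_sD.1 (hH hx).2).1, (mem_sD.1 (hH hx).2).2, h2⟩)
    rwa [card_line h1] at this
  have hN2 : Nat.card ↥(N ⊓ Q2 K) ≤ qq K ^ 3 := by
    by_cases hy : ∃ y ∈ N, y.a = 0 ∧ y.d ≠ 0
    · obtain ⟨y, hy, h0, h1⟩ := hy
      calc _ ≤ _ := hd (N ⊓ Q2 K) y (fun x hx => ⟨hNM hx.1, hx.2, hNb x hx.1 hx.2⟩) hy h0 h1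
        _ ≤ qq K * qq K ^ 2 :=
          Nat.mul_le_mul_left _ (hNV _ (inf_le_left.trans inf_le_left) inf_le_right)
        _ = _ := by ring
    · push Not at hy
      exact (hNV (N ⊓ Q2 K) inf_le_left fun x hx => ⟨hx.2, hNb x hx.1 hx.2, hy x hx.1 hx.2⟩).trans
        (qq_lt (by norm_num)).le
  obtain ⟨v, hv, hva⟩ : ∃ v ∈ N, v.a ≠ 0 := by
    by_contra hn
    push Not at hn
    rw [inf_eq_left.2 (show N ≤ Q2 K from hn), hN] at hN2
    exact absurd hN2 (not_le.2 (qq_lt (by norm_num)))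
  have hM1 : Nat.card M ≤ qq K ^ 2 * Nat.card ↥(M ⊓ sD K) := by
    have := card_le_of_coord (H := M) (L := sD K) (π := U.a) (X := Set.univ) (fun _ _ _ _ => rfl)
      (fun _ _ => trivial) (fun x hx h0 => ⟨h0, b_of_comm h0 hva (h x hx v hv)⟩)
    rwa [card_univ] at this
  have hM5 : Nat.card ↥(M ⊓ sD K) ≤ qq K ^ 3 := by
    by_cases hl : ∀ w ∈ N, w.a * σ v.a = v.a * σ w.a
    · have h1 := card_le_of_coord (H := N) (L := Q2 K) (π := U.a) (X := {x : K | x * σ v.a = v.a * σ x})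
        (fun _ _ _ _ => rfl) hl (fun x _ h0 => h0)
      rw [card_line hva, hN] at h1
      obtain ⟨y, hy, h0, h2⟩ : ∃ y ∈ N, y.a = 0 ∧ y.d ≠ 0 := by
        by_contra hn
        push Not at hn
        have h3 := hNV (N ⊓ Q2 K) inf_le_left fun x hx => ⟨hx.2, hNb x hx.1 hx.2, hn x hx.1 hx.2⟩
        have h4 : qq K ^ 4 ≤ qq K ^ 3 :=
          h1.trans ((Nat.mul_le_mul_left _ h3).trans (le_of_eq (by ring)))
        exact absurd h4 (not_le.2 (qq_lt (by norm_num)))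
      calc _ ≤ _ := hd _ y le_rfl hy h0 h2
        _ ≤ qq K * qq K ^ 2 :=
          Nat.mul_le_mul_left _ (card_le_sV inf_le_right hva fun x hx => h x hx.1.1 v hv)
        _ = _ := by ring
    · push Not at hl
      obtain ⟨w, hw, hwv⟩ := hl
      have hwa : w.a ≠ 0 := fun h0 => hwv (by simp [h0])
      have h1 := card_le_of_coord (H := M ⊓ sD K) (L := sZ K) (π := U.d) (X := Set.univ)
        (fun x hx y _ => by simp [(mem_sD.1 hx.2).1]) (fun _ _ => trivial) (fun x hx h0 => by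
          have hV : x ∈ sV K := ⟨(mem_sD.1 hx.2).1, (mem_sD.1 hx.2).2, h0⟩
          obtain ⟨hY, e1⟩ := mem_sY_of_comm hV hva (h x hx.1 v hv)
          obtain ⟨-, e2⟩ := mem_sY_of_comm hV hwa (h x hx.1 w hw)
          obtain ⟨k1, k2, k3, k4⟩ := mem_sY.1 hY
          refine ⟨k1, k2, k3, k4, by_contra fun hf => hwv (mul_left_cancel₀ hf ?_)⟩
          linear_combination w.a * e1 - v.a * e2)
      rw [card_univ] at h1
      calc _ ≤ _ := h1
        _ ≤ qq K ^ 2 * qq K :=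
          Nat.mul_le_mul_left _ (card_sZ (K := K) ▸ Subgroup.card_le_of_le inf_le_right)
        _ = _ := by ring
  have : qq K ^ 6 ≤ qq K ^ 5 := hM ▸ hM1.trans ((Nat.mul_le_mul_left _ hM5).trans (le_of_eq (by ring)))
  exact absurd this (not_le.2 (qq_lt (by norm_num)))

/-- `R = g(Q1)` has order `q⁷`; `R ⊓ sV` is central in `R`, so lies in `g(sZ)` (the centre of `Q1` is `sZ`), of order
`q`; but `#R ≤ q² · q² · #(R ⊓ sV)` (coordinates `b`, `d`). -/
theorem not_Q1_le_Q2 {g : U K → U K} (hg : ∀ x ∈ Q1 K, ∀ y ∈ Q1 K, g (x * y) = g x * g y)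
    (hi : Set.InjOn g (Q1 K)) (h : ∀ x ∈ Q1 K, g x ∈ Q2 K) : False := by
  let φ : Q1 K →* U K := MonoidHom.mk' (fun x => g x) fun x y => hg _ x.2 _ y.2
  have hφ : Function.Injective φ := fun x y e => Subtype.ext (hi x.2 y.2 e)
  have hR : φ.range ≤ Q2 K := by
    rintro _ ⟨x, rfl⟩
    exact h _ x.2
  have h0 : Nat.card φ.range = qq K ^ 7 := by
    rw [← card_Q1]; exact (Nat.card_congr (MonoidHom.ofInjective hφ).toEquiv).symm
  have h1 := card_le_of_coord (H := φ.range) (L := sD K) (π := U.b) (X := Set.univ) (fun _ _ _ _ => rfl)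
    (fun _ _ => trivial) (fun x hx h0 => ⟨hR hx, h0⟩)
  have h2 := card_le_of_coord (H := φ.range ⊓ sD K) (L := ((sZ K).subgroupOf (Q1 K)).map φ) (π := U.d)
    (X := Set.univ) (fun x hx y _ => by simp [(mem_sD.1 hx.2).1]) (fun _ _ => trivial) (by
      rintro _ ⟨⟨u, rfl⟩, hu⟩ h0
      refine ⟨u, mem_sZ_of_Q1 u.2 fun w hw => ?_, rfl⟩
      have := comm_of_sV (x := φ u) (y := φ ⟨w, hw⟩) ⟨(mem_sD.1 hu).1, (mem_sD.1 hu).2, h0⟩ (h w hw)
      rw [← map_mul, ← map_mul] at this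
      exact congrArg Subtype.val (hφ this))
  have h3 : Nat.card ↥(φ.range ⊓ sD K ⊓ ((sZ K).subgroupOf (Q1 K)).map φ) ≤ qq K := by
    refine (Subgroup.card_le_of_le inf_le_right).trans ?_
    rw [Subgroup.card_map_of_injective hφ, ← card_sZ]
    exact Nat.card_le_card_of_injective (fun x => ⟨x.1.1, x.2⟩) fun x y e =>
      Subtype.ext (Subtype.ext (congrArg (fun t : sZ K => t.1) e))
  rw [card_univ] at h1 h2
  have : qq K ^ 7 ≤ qq K ^ 5 := h0 ▸ h1.trans ((Nat.mul_le_mul_left _ (h2.trans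
    (Nat.mul_le_mul_left _ h3))).trans (le_of_eq (by ring)))
  exact absurd this (not_le.2 (qq_lt (by norm_num)))

end Cfsg.Lib.U5F
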