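import Cfsg.Agent.Lib.U5F.Cd
import Cfsg.Agent.Lib.Unitary.Gram

/-! # S5258: the group `SU₅(q)` for the antidiagonal form -/

set_option autoImplicit false
set_option linter.unusedSectionVars false
set_option linter.unnecessarySeqFocus false
set_option linter.unusedSimpArgs false

namespace Cfsg.Lib.U5F

open Subgroup Matrix

variable (K : Type*) [Field K] [Bar K]

/-- The Gram matrix. -/
def JJ : Matrix (Fin 5) (Fin 5) K := !![0, 0, 0, 0, 1; 0, 0, 0, 1, 0; 0, 0, 1, 0, 0; 0, 1, 0, 0, 0; 1, 0, 0, 0, 0]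

/-- `SU₅(q)`. -/
abbrev G5 : Type _ := Unitary.mSU (σ : K →+* K) (JJ K)

variable {K}

/-- The matrix of `x`. -/
def mat (x : U K) : Matrix (Fin 5) (Fin 5) K :=
  !![1, x.a, x.d, x.f, x.z; 0, 1, x.b, x.c, -σ x.f - σ x.a * x.c - x.b * σ x.d;
    0, 0, 1, -σ x.b, σ x.a * σ x.b - σ x.d; 0, 0, 0, 1, -σ x.a; 0, 0, 0, 0, 1]

/-- Unitary matrices. -/
def Un (M : Matrix (Fin 5) (Fin 5) K) : Prop := (M.map (σ : K →+* K))ᵀ * JJ K * M = JJ K

theorem Un.mul {M N : Matrix (Fin 5) (Fin 5) K} (h : Un M) (k : Un N) : Un (M * N) := by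
  unfold Un at *
  rw [Matrix.map_mul, transpose_mul, Matrix.mul_assoc _ _ (JJ K), Matrix.mul_assoc, ← Matrix.mul_assoc _ M, h,
    ← Matrix.mul_assoc, k]

theorem Un.map {M : Matrix (Fin 5) (Fin 5) K} (h : Un M) (τ : K ≃+* K) : Un (M.map τ) := by
  have h1 := congrArg (fun N => N.map (τ : K →+* K)) h
  have h2 : (JJ K).map (τ : K →+* K) = JJ K := by
    ext i j; fin_cases i <;> fin_cases j <;> simp [JJ]
  simp only [Matrix.map_mul, h2] at h1
  unfold Un
  convert h1 using 3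
  · ext i j; simp [σ_ringAut]
  · rfl

theorem un_iff {M : Matrix (Fin 5) (Fin 5) K} : Un M ↔ ∀ i j, σ (M 0 i) * M 4 j + σ (M 1 i) * M 3 j + σ (M 2 i) * M 2 j +
    σ (M 3 i) * M 1 j + σ (M 4 i) * M 0 j = JJ K i j := by
  rw [Un, ← Matrix.ext_iff]
  refine forall₂_congr fun i j => Eq.congr_left ?_
  simp [mul_apply, Fin.sum_univ_five, JJ]; ring

theorem un_diag {d : Fin 5 → K} (h0 : σ (d 0) * d 4 = 1) (h1 : σ (d 1) * d 3 = 1) (h2 : σ (d 2) * d 2 = 1) :
    Un (diagonal d) := by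
  have h3 := congrArg σ h0
  have h4 := congrArg σ h1
  simp only [map_mul, σσ, map_one, mul_comm (d _)] at h3 h4
  refine un_iff.2 fun i j => ?_
  fin_cases i <;> fin_cases j <;> simp [JJ, *]

/-- An element of `SU₅(q)`. -/
def mk5 (M : Matrix (Fin 5) (Fin 5) K) (hd : M.det = 1) (hu : Un M) : G5 K := ⟨⟨M, hd⟩, Unitary.mem_mSU.2 hu⟩

theorem G5_un (g : G5 K) : Un g.1.1 := Unitary.mem_mSU.1 g.2
theorem G5_ext {g h : G5 K} (e : g.1.1 = h.1.1) : g = h := Subtype.ext (Subtype.ext e)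
theorem G5_mul (g h : G5 K) : (g * h).1.1 = g.1.1 * h.1.1 := rfl

theorem mat_mul (x y : U K) : mat (x * y) = mat x * mat y := by
  ext i j; fin_cases i <;> fin_cases j <;> simp [mat, mul_apply, Fin.sum_univ_five, U.σc] <;> ring

theorem det_tri {M : Matrix (Fin 5) (Fin 5) K} (h : ∀ i j, j < i → M i j = 0) :
    M.det = M 0 0 * M 1 1 * M 2 2 * M 3 3 * M 4 4 := by
  rw [det_of_isUpperTriangular (fun i j => h i j), Fin.prod_univ_five]

theorem mat_tri (x : U K) (i j : Fin 5) (h : j < i) : mat x i j = 0 := by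
  fin_cases i <;> fin_cases j <;> simp [mat] at h ⊢

theorem mat_un (x : U K) : Un (mat x) := un_iff.2 fun i j => by
  fin_cases i <;> fin_cases j <;> simp [mat, JJ, U.σc, U.σz] <;> ring

theorem exists_emb : ∃ e : U K →* G5 K, ∀ x, (e x).1.1 = mat x :=
  ⟨MonoidHom.mk' (fun x => mk5 (mat x) (by rw [det_tri (mat_tri x)]; simp [mat]) (mat_un x))
    fun x y => G5_ext (mat_mul x y), fun _ => rfl⟩

/-- The diagonal matrix of `t`. -/
def DD (t : Tw K) : Fin 5 → K := ![t.l * t.m, t.m, 1, (σ (t.m : K))⁻¹, (σ (t.l * t.m : K))⁻¹]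

theorem DD_ne (t : Tw K) (i : Fin 5) : DD t i ≠ 0 := by fin_cases i <;> simp [DD]

theorem DD_mul (s t : Tw K) (i : Fin 5) : DD (s * t) i = DD s i * s.τ (DD t i) := by
  fin_cases i <;> simp [DD, σ_ringAut] <;> ring

theorem DD_cancel (t : Tw K) : diagonal (DD t)⁻¹ * diagonal (DD t) = 1 := by
  rw [diagonal_mul_diagonal, ← diagonal_one]; congr 1; ext i; exact inv_mul_cancel₀ (DD_ne t i)

/-- The diagonal and field automorphisms of `SU₅(q)`. -/
def ph (t : Tw K) (g : G5 K) : G5 K := mk5 (diagonal (DD t) * g.1.1.map t.τ * diagonal (DD t)⁻¹)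
  (by
    have := (t.τ : K →+* K).map_det g.1.1
    rw [g.1.2, map_one] at this
    rw [det_mul_comm, ← Matrix.mul_assoc, DD_cancel, Matrix.one_mul]; exact this.symm)
  (((un_diag (by simp [DD]; field_simp) (by simp [DD]) (by simp [DD])).mul ((G5_un g).map _)).mul
    (un_diag (by simp [DD]; field_simp) (by simp [DD]) (by simp [DD])))

theorem ph_apply (t : Tw K) (g : G5 K) (i j : Fin 5) : (ph t g).1.1 i j = DD t i * t.τ (g.1.1 i j) * (DD t j)⁻¹ := by
  simp [ph, mk5]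

theorem ph_mul (s t : Tw K) (g : G5 K) : ph (s * t) g = ph s (ph t g) := G5_ext (by
  ext i j; simp only [ph_apply, DD_mul, map_mul, map_inv₀, Tw.mul_τ, Tw.τ_mul]; ring)

theorem ph_one (g : G5 K) : ph 1 g = g := G5_ext (by
  have : ∀ i, DD (1 : Tw K) i = 1 := fun i => by fin_cases i <;> simp [DD]
  ext i j; simp [ph_apply, this])

theorem ph_map_mul (t : Tw K) (g h : G5 K) : ph t (g * h) = ph t g * ph t h := G5_ext (by
  change diagonal (DD t) * (g.1.1 * h.1.1).map (t.τ : K →+* K) * diagonal (DD t)⁻¹ =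
    diagonal (DD t) * g.1.1.map (t.τ : K →+* K) * diagonal (DD t)⁻¹ *
      (diagonal (DD t) * h.1.1.map (t.τ : K →+* K) * diagonal (DD t)⁻¹)
  simp only [Matrix.map_mul, Matrix.mul_assoc]
  rw [← Matrix.mul_assoc (diagonal (DD t)⁻¹), DD_cancel, Matrix.one_mul])

/-- The diagonal of `dg u v`. -/
def dv (u v : Kˣ) : Fin 5 → K := ![u, v / u, σ (v : K) / v, σ (u : K) / σ (v : K), (σ (u : K))⁻¹]

/-- The diagonal elements of `SU₅(q)`. -/
def dgG (u v : Kˣ) : G5 K := mk5 (diagonal (dv u v))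
  (by
    have h3 := σ_eq_zero.not.2 u.ne_zero
    have h4 := σ_eq_zero.not.2 v.ne_zero
    simp [dv, Fin.prod_univ_five]; field_simp)
  (un_diag (by simp [dv]) (by simp [dv]) (by simp [dv]))

theorem dv_inv (u v : Kˣ) (i : Fin 5) : dv u v i * dv u⁻¹ v⁻¹ i = 1 := by
  have h3 := σ_eq_zero.not.2 u.ne_zero
  have h4 := σ_eq_zero.not.2 v.ne_zero
  fin_cases i <;> simp [dv] <;> field_simp

theorem dgG_inv (u v : Kˣ) : (dgG u v)⁻¹ = dgG u⁻¹ v⁻¹ := inv_eq_of_mul_eq_one_right (G5_ext (by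
  change diagonal _ * diagonal _ = 1
  rw [diagonal_mul_diagonal, ← diagonal_one]; congr 1; ext i; exact dv_inv u v i))

/-- The Weyl element of `N(Q1)`. -/
def w1G : G5 K := mk5 !![1,0,0,0,0; 0,0,0,1,0; 0,0,-1,0,0; 0,1,0,0,0; 0,0,0,0,1]
  (by simp [det_succ_row_zero, Fin.sum_univ_succ, Fin.succAbove])
  (un_iff.2 fun i j => by fin_cases i <;> fin_cases j <;> simp [JJ])

/-- The Weyl element of `N(Q2)`. -/
def w2G : G5 K := mk5 !![0,1,0,0,0; -1,0,0,0,0; 0,0,1,0,0; 0,0,0,0,-1; 0,0,0,1,0]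
  (by simp [det_succ_row_zero, Fin.sum_univ_succ, Fin.succAbove])
  (un_iff.2 fun i j => by fin_cases i <;> fin_cases j <;> simp [JJ])

theorem w1_mat (x : Q1 K) : (w1G (K := K)).1.1 * mat x.1 = mat (W1 K x).1 * (w1G (K := K)).1.1 := by
  ext i j
  fin_cases i <;> fin_cases j <;>
    simp [w1G, mk5, mat, W1_val, (W1 K x).2.1, (W1 K x).2.2, mul_apply, Fin.sum_univ_five, x.2.1, x.2.2]

theorem w2_mat (x : Q2 K) : (w2G (K := K)).1.1 * mat x.1 = mat (W2 K x).1 * (w2G (K := K)).1.1 := by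
  ext i j
  fin_cases i <;> fin_cases j <;>
    simp [w2G, mk5, mat, W2_val, mem_Q2.1 (W2 K x).2, mul_apply, Fin.sum_univ_five, mem_Q2.1 x.2] <;> ring

theorem dg_mat (u v : Kˣ) (x : U K) : diagonal (dv u v) * mat x = mat (tw (dg u v) x) * diagonal (dv u v) := by
  have h3 := σ_eq_zero.not.2 u.ne_zero
  have h4 := σ_eq_zero.not.2 v.ne_zero
  ext i j
  fin_cases i <;> fin_cases j <;> simp [mat, dv] <;> field_simp

theorem tri_of {M : Matrix (Fin 5) (Fin 5) K} {x y : U K} (ha : x.a = 1) (hb : x.b = 1) (h : M * mat x = mat y * M) :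
    ∀ i j, j < i → M i j = 0 := by
  have k := fun i j => congrFun (congrFun h i) j
  have h40 : M 4 0 = 0 := by simpa [mat, mul_apply, Fin.sum_univ_five, *] using k 4 1
  have h41 : M 4 1 = 0 := by simpa [mat, mul_apply, Fin.sum_univ_five, *] using k 4 2
  have h42 : M 4 2 = 0 := by simpa [mat, mul_apply, Fin.sum_univ_five, *] using k 4 3
  have h43 : M 4 3 = 0 := by simpa [mat, mul_apply, Fin.sum_univ_five, *] using k 4 4
  have h30 : M 3 0 = 0 := by simpa [mat, mul_apply, Fin.sum_univ_five, *] using k 3 1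
  have h31 : M 3 1 = 0 := by simpa [mat, mul_apply, Fin.sum_univ_five, *] using k 3 2
  have h32 : M 3 2 = 0 := by simpa [mat, mul_apply, Fin.sum_univ_five, *] using k 3 3
  have h20 : M 2 0 = 0 := by simpa [mat, mul_apply, Fin.sum_univ_five, *] using k 2 1
  have h21 : M 2 1 = 0 := by simpa [mat, mul_apply, Fin.sum_univ_five, *] using k 2 2
  have h10 : M 1 0 = 0 := by simpa [mat, mul_apply, Fin.sum_univ_five, *] using k 1 1
  intro i j hij
  fin_cases i <;> fin_cases j <;> simp [*] at hij ⊢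

theorem exists_mat {M : Matrix (Fin 5) (Fin 5) K} (hu : Un M) (ht : ∀ i j, j < i → M i j = 0) (hd : ∀ i, M i i = 1) :
    ∃ s, mat s = M := by
  have k := un_iff.1 hu
  have k14 := k 1 4
  have k23 := k 2 3
  have k24 := k 2 4
  have k34 := k 3 4
  have k33 := k 3 3
  have k44 := k 4 4
  simp [ht, hd, JJ] at k14 k23 k24 k34 k33 k44
  have h34 : M 3 4 = -σ (M 0 1) := by linear_combination k14
  have h23 : M 2 3 = -σ (M 1 2) := by linear_combination k23
  have h24 : M 2 4 = σ (M 0 1) * σ (M 1 2) - σ (M 0 2) := by rw [h34] at k24; linear_combination k24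
  have hc : M 1 3 + σ (M 1 3) + M 1 2 * σ (M 1 2) = 0 := by simp [h23] at k33; linear_combination k33
  have h14 : M 1 4 = -σ (M 0 3) - σ (M 0 1) * M 1 3 - M 1 2 * σ (M 0 2) := by
    simp [h23, h24, h34] at k34; linear_combination k34 + σ (M 0 1) * hc
  refine ⟨⟨M 0 1, M 1 2, M 1 3, M 0 2, M 0 3, M 0 4, hc, ?_⟩, ?_⟩
  · simp [h14, h24, h34] at k44; linear_combination k44 - M 0 1 * σ (M 0 1) * hc
  · ext i j; fin_cases i <;> fin_cases j <;> simp [mat, *]

/-- All that is used about `SU₅(q)`. -/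
structure Emb (p : ℕ) {G : Type*} [Group G] (e : U K →* G) (φ : Tw K →* MulAut G) : Prop where
  inj : Function.Injective e
  syl : ¬ p ∣ e.range.index
  tw : ∀ t x, φ t (e x) = e (tw t x)
  nrm : ∀ g : G, (∀ x, g * e x * g⁻¹ ∈ e.range) →
    ∃ s u v, ∀ x, g * e x * g⁻¹ = e (s * U5F.tw (dg u v) x * s⁻¹)
  dg : ∀ u v, ∃ g : G, ∀ x, g * e x * g⁻¹ = e (U5F.tw (dg u v) x)
  w1 : ∃ g : G, ∀ x : Q1 K, g * e x * g⁻¹ = e (W1 K x)
  w2 : ∃ g : G, ∀ x : Q2 K, g * e x * g⁻¹ = e (W2 K x)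

variable {p : ℕ} [Fact p.Prime] [CharP K p] {e : U K →* G5 K} (he : ∀ x, (e x).1.1 = mat x)
include he

theorem emb_inj : Function.Injective e := fun x y h => by
  have := fun i j => congrFun (congrFun ((he x).symm.trans ((congrArg (·.1.1) h).trans (he y))) i) j
  exact U.ext (this 0 1) (this 1 2) (this 1 3) (this 0 2) (this 0 3) (this 0 4)

theorem conj_iff {g : G5 K} {x y : U K} : g * e x * g⁻¹ = e y ↔ g.1.1 * mat x = mat y * g.1.1 := by
  rw [mul_inv_eq_iff_eq_mul, ← he, ← he]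
  exact ⟨congrArg fun g : G5 K => g.1.1, fun h => G5_ext h⟩

omit he in
theorem JJ_σ (i j : Fin 5) : σ (JJ K i j) = JJ K j i := by fin_cases i <;> fin_cases j <;> simp [JJ]

omit he in
theorem JJ_det : (JJ K).det = 1 := by
  simp [JJ, det_succ_row_zero, Fin.sum_univ_succ, Fin.succAbove]; norm_num

/-- `Unitary.msuEquiv`, `IsHerm.card_SUG` (`(q + 1) * #SU = guOrder q 5 = q ^ 10 * (prime to p)`), `card_U`, `exists_qq`. -/
theorem emb_syl : ¬ p ∣ e.range.index := fun h => by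
  have hp : p.Prime := Fact.out
  have h1 := (Unitary.isHerm_gramForm isb.ne_id isb.invol (J := JJ K) JJ_σ (by simp [JJ_det])).card_SUG isb (by simp)
  rw [← Nat.card_congr (Unitary.msuEquiv _ _).toEquiv, ← e.range.card_mul_index,
    ← Nat.card_congr (MonoidHom.ofInjective (emb_inj he)).toEquiv, card_U, Module.finrank_fin_fun, Unitary.guOrder,
    mul_left_comm] at h1
  obtain ⟨n, hn⟩ := exists_qq (K := K) p
  have h2 := Nat.eq_of_mul_eq_mul_left (by have := isb (K := K) |>.two_le; positivity) h1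
  obtain ⟨i, -, hi⟩ := (hp.prime.dvd_finsetProd_iff _).1 (h2 ▸ h.mul_left _)
  have h3 : p ∣ qq K ^ (i + 1) := by rw [hn]; exact dvd_pow (dvd_pow_self _ n.succ_ne_zero) i.succ_ne_zero
  refine hp.not_dvd_one ?_
  unfold Unitary.uf at hi
  split_ifs at hi
  · exact (Nat.dvd_add_right h3).1 hi
  · have := Nat.dvd_sub h3 hi
    rwa [Nat.sub_sub_self (Nat.one_le_pow _ _ (by rw [hn]; exact pow_pos hp.pos _))] at this

/-- `φ t g = D * g.map τ * D⁻¹`, `D = diagonal ![l m, m, 1, (σ m)⁻¹, (σ (l m))⁻¹]` (unitary; `σ_ringAut`). -/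
theorem exists_phi : ∃ φ : Tw K →* MulAut (G5 K), ∀ t x, φ t (e x) = e (tw t x) :=
  ⟨MonoidHom.mk' (fun t =>
    { toFun := ph t
      invFun := ph t⁻¹
      left_inv := fun x => by rw [← ph_mul, inv_mul_cancel, ph_one]
      right_inv := fun x => by rw [← ph_mul, mul_inv_cancel, ph_one]
      map_mul' := ph_map_mul t }) fun s t => MulEquiv.ext (ph_mul s t), fun t x => G5_ext (by
    ext i j
    change (ph t (e x)).1.1 i j = _
    rw [ph_apply, he, he]
    have h1 := t.l.ne_zero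
    have h2 := t.m.ne_zero
    have h3 := σ_eq_zero.not.2 h1
    have h4 := σ_eq_zero.not.2 h2
    fin_cases i <;> fin_cases j <;> simp [mat, DD, σ_ringAut] <;> field_simp)⟩

/-- `g` normalizes the (finite) range.  The vectors fixed by all `mat x` are the multiples of `ε₀`, so `g ε₀ = u ε₀`; the vectors `v`
with `mat x v - v ∈ K ε₀` for all `x` are `⟨ε₀, ε₁⟩`, so `g ε₁ ∈ ⟨ε₀, ε₁⟩`; unitarity makes `g` upper triangular with diagonal
`(u, t₁, t₂, (σ t₁)⁻¹, (σ u)⁻¹)`, `t₂ σ t₂ = 1`, determinant one: with `v = u t₁` it is the diagonal `d` of `dg u v`; `g d⁻¹` is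
unitriangular and unitary, so equal to some `mat s`. -/
theorem emb_nrm (g : G5 K) (h : ∀ x, g * e x * g⁻¹ ∈ e.range) :
    ∃ s u v, ∀ x, g * e x * g⁻¹ = e (s * tw (dg u v) x * s⁻¹) := by
  obtain ⟨c, hc⟩ := U.exists_c (1 : K)
  obtain ⟨x, ha, hb, -⟩ := U.exists_mk 1 1 0 0 hc
  obtain ⟨y, hy⟩ := h x
  have ht := tri_of ha hb ((conj_iff he).1 hy.symm)
  have hd := (det_tri ht).symm.trans g.1.2
  have k := un_iff.1 (G5_un g)
  have k0 := k 0 4
  have k1 := k 1 3
  simp [ht, JJ] at k0 k1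
  have n0 : g.1.1 0 0 ≠ 0 := fun h => by simp [h] at hd
  have n1 : g.1.1 1 1 ≠ 0 := fun h => by simp [h] at hd
  have n2 := σ_eq_zero.not.2 n0
  have n3 := σ_eq_zero.not.2 n1
  let u := Units.mk0 _ n0
  let v := Units.mk0 _ (mul_ne_zero n0 n1)
  have hv : ∀ i, dv u v i = g.1.1 i i := fun i => by
    have h4 := eq_inv_of_mul_eq_one_right k0
    have h3 := eq_inv_of_mul_eq_one_right k1
    rw [h3, h4] at hd
    fin_cases i <;> simp [dv, u, v, h3, h4] <;> field_simp at hd ⊢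
    exact hd.symm
  have hi : ((dgG u v)⁻¹).1.1 = diagonal (dv u⁻¹ v⁻¹) := by rw [dgG_inv]; rfl
  obtain ⟨s, hs⟩ := exists_mat (G5_un (g * (dgG u v)⁻¹)) (fun i j h => by rw [G5_mul, hi, mul_diagonal, ht i j h, zero_mul])
    fun i => by rw [G5_mul, hi, mul_diagonal, ← hv, dv_inv]
  have hg : g = e s * dgG u v := by rw [← mul_inv_eq_iff_eq_mul]; exact G5_ext (by rw [he, hs])
  clear_value u v
  subst hg
  refine ⟨s, u, v, fun x => ?_⟩
  rw [map_mul, map_mul, map_inv, ← (conj_iff he (g := dgG u v)).2 (dg_mat u v x)]; group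

/-- `diagonal ![u, v / u, σ v / v, σ u / σ v, (σ u)⁻¹]`; `!![1,0,0,0,0; 0,0,0,1,0; 0,0,-1,0,0; 0,1,0,0,0; 0,0,0,0,1]`;
`!![0,1,0,0,0; -1,0,0,0,0; 0,0,1,0,0; 0,0,0,0,-1; 0,0,0,1,0]`. -/
theorem exists_Emb : ∃ φ, Emb p e φ := by
  obtain ⟨φ, hφ⟩ := exists_phi he
  exact ⟨φ, emb_inj he, emb_syl he, hφ, emb_nrm he, fun u v => ⟨dgG u v, fun x => (conj_iff he).2 (dg_mat u v x)⟩,
    ⟨w1G, fun x => (conj_iff he).2 (w1_mat x)⟩, ⟨w2G, fun x => (conj_iff he).2 (w2_mat x)⟩⟩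

omit he in
/-- `isb.nonempty_msuEquiv`; the centre of `SU` has order prime to `p` (or meets the range of `e` trivially: scalars), so
`U K → PSU` is injective with range of index prime to `p`; Sylow subgroups are conjugate. -/
theorem nonempty_equiv [Fintype K] (T : Sylow p (PSU 5 K (qq K))) :
    Nonempty ((T : Subgroup (PSU 5 K (qq K))) ≃* U K) := by
  obtain ⟨e, he⟩ := exists_emb (K := K)
  obtain ⟨ψ⟩ := (isb (K := K)).nonempty_msuEquiv (J := JJ K) (n := 5) JJ_σ (by simp [JJ_det]) (by simp)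
  let π : G5 K →* PSU 5 K (qq K) := (QuotientGroup.mk' _).comp ψ.toMonoidHom
  have hπ : Function.Surjective π := (QuotientGroup.mk'_surjective _).comp ψ.surjective
  have hi : Function.Injective (π.comp e) := (injective_iff_map_eq_one _).2 fun x hx => by
    let w : G5 K := mk5 (JJ K) JJ_det (un_iff.2 fun i j => by fin_cases i <;> fin_cases j <;> simp [JJ])
    have h1 := mem_center_iff.1 ((QuotientGroup.eq_one_iff _).1 hx) (ψ w)
    have h2 : JJ K * mat x = mat x * JJ K := by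
      rw [← he]; exact congrArg (fun g : G5 K => g.1.1) (ψ.injective (by rw [map_mul, map_mul]; exact h1) : w * e x = e x * w)
    have k := fun i j => congrFun (congrFun h2 i) j
    have k1 := k 4 1
    have k2 := k 3 2
    have k3 := k 3 3
    have k4 := k 4 2
    have k5 := k 4 3
    have k6 := k 4 4
    simp [JJ, mat, mul_apply, Fin.sum_univ_five] at k1 k2 k3 k4 k5 k6
    ext <;> assumption
  have q := MonoidHom.ofInjective hi
  let T' := ((isPGroup_U (K := K) p).of_equiv q).toSylow fun h => emb_syl (p := p) he (h.trans (by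
    rw [MonoidHom.range_comp]; exact index_map_dvd _ hπ))
  exact ⟨(T.equiv T').trans q.symm⟩

end Cfsg.Lib.U5F
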