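import Cfsg.Agent.Lib.U5F.Cd
import Cfsg.Agent.Lib.Transfer.SylowIn

/-!
# S5258: groups of additive automorphisms of `Q1 / Z = K³` (coordinates `a, d, f`) and `Q2 / V = K²` (coordinates `b, d`).
`U₃ = {(0, 0, w)}`, `U₃^⊥ = {(0, y, w)}`, `U₃' = {(x, 0, 0)}`, `E₀ = {(0, y, 0)}`; `k` is the fixed field of `σ`.
-/

set_option autoImplicit false
set_option linter.unusedSectionVars false
set_option linter.unnecessarySeqFocus false

namespace Cfsg.Lib.U5F

open Subgroup

variable {K : Type*} [Field K] [Bar K]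

/-- The hermitian form. -/
def hh (u v : K × K × K) : K := u.1 * σ v.2.2 + u.2.1 * σ v.2.1 + u.2.2 * σ v.1
/-- The commutator form, with values in the skew elements. -/
def om (u v : K × K × K) : K := hh u v - hh v u
theorem σ_hh (u v : K × K × K) : σ (hh u v) = hh v u := by simp [hh]; ring

/-- Additive automorphisms, as a multiplicative group. -/
abbrev AA (A : Type*) [AddCommGroup A] := A ≃ₗ[ℤ] A

instance finiteAA {A : Type*} [AddCommGroup A] [Finite A] : Finite (AA A) :=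
  .of_injective (fun α => (α : A → A)) DFunLike.coe_injective

/-- Upper unitriangular maps. -/
def t3 (b c : K) : AA (K × K × K) := AddEquiv.toIntLinearEquiv
  { toFun v := (v.1, v.2.1 + v.1 * b, v.2.2 + v.1 * c - v.2.1 * σ b)
    invFun v := (v.1, v.2.1 - v.1 * b, v.2.2 - v.1 * c + (v.2.1 - v.1 * b) * σ b)
    left_inv v := by ext <;> simp <;> ring
    right_inv v := by ext <;> simp <;> ring
    map_add' u v := by ext <;> simp <;> ring }
@[simp] theorem t3_apply (b c : K) (v : K × K × K) :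
    t3 b c v = (v.1, v.2.1 + v.1 * b, v.2.2 + v.1 * c - v.2.1 * σ b) := rfl

/-- Lower unitriangular maps. -/
def s3 (α β : K) : AA (K × K × K) := AddEquiv.toIntLinearEquiv
  { toFun v := (v.1 + β * v.2.2 - σ α * v.2.1, v.2.1 + α * v.2.2, v.2.2)
    invFun v := (v.1 - β * v.2.2 + σ α * (v.2.1 - α * v.2.2), v.2.1 - α * v.2.2, v.2.2)
    left_inv v := by ext <;> simp <;> ring
    right_inv v := by ext <;> simp <;> ring
    map_add' u v := by ext <;> simp <;> ring }
@[simp] theorem s3_apply (α β : K) (v : K × K × K) :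
    s3 α β v = (v.1 + β * v.2.2 - σ α * v.2.1, v.2.1 + α * v.2.2, v.2.2) := rfl

theorem t3_mul (b c b' c' : K) : t3 b c * t3 b' c' = t3 (b + b') (c + c' - b' * σ b) := by
  refine LinearEquiv.ext fun v => ?_; ext <;> simp <;> ring
theorem s3_mul (b c b' c' : K) : s3 b c * s3 b' c' = s3 (b + b') (c + c' - b' * σ b) := by
  refine LinearEquiv.ext fun v => ?_; ext <;> simp <;> ring
theorem t3_zero : t3 (0 : K) 0 = 1 := by refine LinearEquiv.ext fun v => ?_; ext <;> simp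
theorem s3_zero : s3 (0 : K) 0 = 1 := by refine LinearEquiv.ext fun v => ?_; ext <;> simp

/-- The subgroup of the maps `r b c`, `c + σ c + b σ b = 0`. -/
def hs (r : K → K → AA (K × K × K))
    (h : ∀ b c b' c', r b c * r b' c' = r (b + b') (c + c' - b' * σ b)) (h0 : r 0 0 = 1) :
    Subgroup (AA (K × K × K)) where
  carrier := {g | ∃ b c, c + σ c + b * σ b = 0 ∧ g = r b c}
  one_mem' := ⟨0, 0, by simp, h0.symm⟩
  mul_mem' := by
    rintro _ _ ⟨b, c, e, rfl⟩ ⟨b', c', e', rfl⟩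
    exact ⟨_, _, by simp; linear_combination e + e', h ..⟩
  inv_mem' := by
    rintro _ ⟨b, c, e, rfl⟩
    refine ⟨-b, σ c, by simp; linear_combination e, inv_eq_of_mul_eq_one_right ?_⟩
    rw [h, ← h0]; congr 1
    · ring
    · linear_combination e

variable (K) in
/-- The image of `S` on `Q1 / Z`. -/
def T3 : Subgroup (AA (K × K × K)) := hs t3 t3_mul t3_zero
variable (K) in
/-- The opposite group. -/
def S3 : Subgroup (AA (K × K × K)) := hs s3 s3_mul s3_zero
theorem mem_T3 {g : AA (K × K × K)} : g ∈ T3 K ↔ ∃ b c, c + σ c + b * σ b = 0 ∧ g = t3 b c := Iff.rfl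
theorem mem_S3 {g : AA (K × K × K)} : g ∈ S3 K ↔ ∃ b c, c + σ c + b * σ b = 0 ∧ g = s3 b c := Iff.rfl

variable (K) in
/-- The normalizer of `T3`. -/
abbrev N3 : Subgroup (AA (K × K × K)) := normalizer (T3 K : Set (AA (K × K × K)))

/-- The image of `Aut_F(Q1)` on `Q1 / Z`. -/
structure LA1 (p : ℕ) (L : Subgroup (AA (K × K × K))) : Prop where
  le : T3 K ≤ L
  syl : ¬ p ∣ (T3 K).relIndex L
  omc : ∀ g ∈ L, ∀ u v u' v', om u v = om u' v' → om (g u) (g v) = om (g u') (g v')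
  sq : p = 2 → ∀ g ∈ L, ∀ u, hh u u = 0 → hh (g u) (g u) = 0
  ti : ∀ g ∈ L, ∀ t ∈ T3 K, t ≠ 1 → g * t * g⁻¹ ∈ T3 K → g ∈ N3 K
  lin : ∀ g ∈ L, g ∈ N3 K → (∀ s w : K, g (0, 0, s * w) = s • g (0, 0, w)) →
    ∀ (s : K) v, g (s • v) = s • g v
  inv : p ≠ 2 → ∃ g ∈ L, ∀ v, g v = (v.1, -v.2.1, v.2.2)

/-- The conclusion for `g ∈ L \ N3`. -/
def Cc1 (L : Subgroup (AA (K × K × K))) (g : AA (K × K × K)) : Prop :=
  (∃ t ∈ T3 K, ∀ w, (t (g (0, 0, w))).2 = 0) ∧
    ∀ c : K, c ≠ 0 → ∃ h ∈ L, ∀ v, h v = (v.2.2 / σ c, -(σ c / c) * v.2.1, c * v.1)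

/-- Upper unitriangular maps on `K²`. -/
def t2 (a : K) : AA (K × K) := AddEquiv.toIntLinearEquiv
  { toFun v := (v.1, v.2 + a * v.1)
    invFun v := (v.1, v.2 - a * v.1)
    left_inv v := by ext <;> simp
    right_inv v := by ext <;> simp
    map_add' u v := by ext <;> simp <;> ring }
@[simp] theorem t2_apply (a : K) (v : K × K) : t2 a v = (v.1, v.2 + a * v.1) := rfl

variable (K) in
/-- The image of `S` on `Q2 / V`. -/
def T2 : Subgroup (AA (K × K)) where
  carrier := Set.range t2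
  one_mem' := ⟨0, by refine LinearEquiv.ext fun v => ?_; ext <;> simp⟩
  mul_mem' := by rintro _ _ ⟨a, rfl⟩ ⟨b, rfl⟩; exact ⟨a + b, by refine LinearEquiv.ext fun v => ?_; ext <;> simp <;> ring⟩
  inv_mem' := by
    rintro _ ⟨a, rfl⟩
    exact ⟨-a, (inv_eq_of_mul_eq_one_right (by refine LinearEquiv.ext fun v => ?_; ext <;> simp)).symm⟩
theorem mem_T2 {g : AA (K × K)} : g ∈ T2 K ↔ ∃ a, t2 a = g := Iff.rfl

variable (K) in
/-- The normalizer of `T2`. -/
abbrev N2 : Subgroup (AA (K × K)) := normalizer (T2 K : Set (AA (K × K)))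

/-- The image of `Aut_F(Q2)` on `Q2 / V`. -/
structure LA2 (p : ℕ) (L : Subgroup (AA (K × K))) : Prop where
  le : T2 K ≤ L
  syl : ¬ p ∣ (T2 K).relIndex L
  line : ∀ g ∈ L, ∀ d : K, ∃ s : K, g (0, d) = s • g (0, 1)

end Cfsg.Lib.U5F
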