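import Cfsg.Agent.Lib.U5F.LA0

/-! # S5258: the points `g U₃`, `g ∈ L`, are pairwise opposite -/

set_option autoImplicit false

namespace Cfsg.Lib.U5F

open Subgroup

variable {K : Type*} [Field K] [Bar K] {p : ℕ} [Fact p.Prime] [CharP K p]
  {L : Subgroup (AA (K × K × K))} {g h : AA (K × K × K)}

/-- `om` is additive and `k`-linear in each variable, alternating, skew valued. -/
theorem om_smul_left {s : K} (hs : σ s = s) (u v : K × K × K) : om (s • u) v = s * om u v := by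
  simp [om, hh, hs]; ring
theorem om_smul_right {s : K} (hs : σ s = s) (u v : K × K × K) : om u (s • v) = s * om u v := by
  simp [om, hh, hs]; ring
theorem om_add_left (u u' v : K × K × K) : om (u + u') v = om u v + om u' v := by
  simp [om, hh]; ring
theorem om_add_right (u v v' : K × K × K) : om u (v + v') = om u v + om u v' := by
  simp [om, hh]; ring
theorem om_self (u : K × K × K) : om u u = 0 := sub_self _
theorem om_swap (u v : K × K × K) : om u v = -om v u := (neg_sub _ _).symm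
/-- `x σ y = y σ x` for all `y` forces `x = 0` (`isb.exists_ne`). -/
theorem eq_zero_of_im {x : K} (h : ∀ y : K, x * σ y = y * σ x) : x = 0 := eq_zero_of_line h
theorem eq_zero_of_om {u : K × K × K} (h : ∀ v, om u v = 0) : u = 0 :=
  Prod.ext (eq_zero_of_im fun y => by simpa [om, hh, sub_eq_zero] using h (0, 0, y))
    (Prod.ext (eq_zero_of_im fun y => by simpa [om, hh, sub_eq_zero] using h (0, y, 0))
      (eq_zero_of_im fun y => by simpa [om, hh, sub_eq_zero] using h (y, 0, 0)))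
theorem σ_om (u v : K × K × K) : σ (om u v) = -om u v := by rw [om, map_sub, σ_hh, σ_hh, neg_sub]
theorem om_sub_left (u u' v : K × K × K) : om (u - u') v = om u v - om u' v := by simp [om, hh]; ring
theorem om_sub_right (u v v' : K × K × K) : om u (v - v') = om u v - om u v' := by simp [om, hh]; ring
theorem om_U (u : K × K × K) (w : K) : om u (0, 0, w) = u.1 * σ w - w * σ u.1 := by simp [om, hh]
theorem fst_of_om {u : K × K × K} (h : ∀ w, om u (0, 0, w) = 0) : u.1 = 0 :=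
  eq_zero_of_im fun w => sub_eq_zero.1 ((om_U u w).symm.trans (h w))
theorem om_of_fst {u v : K × K × K} (hu : u.1 = 0) (h1 : v.1 = 0) (h2 : v.2.1 = 0) : om u v = 0 := by
  simp [om, hh, hu, h1, h2]
/-- If `u ≠ 0` and `u^⊥ ≤ v^⊥` then `v ∈ k u` (coordinates: test vectors; or pick `w` with `om u w ≠ 0`, `s = om v w / om u w ∈ k`,
and `v - s u` is orthogonal to `w` and to `u^⊥`, which span). -/
theorem exists_smul_of_perp {u v : K × K × K} (hu : u ≠ 0) (h : ∀ w, om u w = 0 → om v w = 0) :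
    ∃ s : K, σ s = s ∧ v = s • u := by
  obtain ⟨w, hw⟩ := not_forall.1 (mt eq_zero_of_om hu)
  have k : ∀ a b c d : K × K × K, σ (om a b / om c d) = om a b / om c d := fun a b c d => by
    rw [map_div₀, σ_om, σ_om, neg_div_neg_eq]
  refine ⟨om v w / om u w, k .., sub_eq_zero.1 (eq_zero_of_om fun x => ?_)⟩
  have := h (x - (om u x / om u w) • w) (by rw [om_sub_right, om_smul_right (k ..), div_mul_cancel₀ _ hw, sub_self])
  rw [om_sub_right, om_smul_right (k ..)] at this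
  rw [om_sub_left, om_smul_left (k ..)]
  linear_combination this
/-- An isometry is `k`-linear (nondegeneracy). -/
theorem smul_of_iso (h : ∀ u v, om (g u) (g v) = om u v) {s : K} (hs : σ s = s) (v : K × K × K) :
    g (s • v) = s • g v :=
  sub_eq_zero.1 (eq_zero_of_om fun x => by
    obtain ⟨x, rfl⟩ := g.surjective x
    rw [om_sub_left, om_smul_left hs, h, h, om_smul_left hs, sub_self])
theorem om_T3 (h : g ∈ T3 K) (u v : K × K × K) : om (g u) (g v) = om u v := by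
  obtain ⟨b, c, e, rfl⟩ := h
  simp [om, hh]; linear_combination (u.1 * σ v.1 - v.1 * σ u.1) * e
theorem hh_T3 (h : g ∈ T3 K) (u v : K × K × K) : hh (g u) (g v) = hh u v := by
  obtain ⟨b, c, e, rfl⟩ := h
  simp [hh]; linear_combination (u.1 * σ v.1) * e
/-- `U₃` is the set of fixed points of `T3`, so `N3` preserves it. -/
theorem N3_U (h : g ∈ N3 K) (w : K) : (g (0, 0, w)).1 = 0 ∧ (g (0, 0, w)).2.1 = 0 := by
  obtain ⟨c, hc⟩ := U.exists_c (1 : K)
  obtain ⟨b, d, -, e⟩ := (mem_normalizer_iff''.1 h _).1 (mem_T3.2 ⟨1, c, hc, rfl⟩)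
  have := congrArg (fun r : AA (K × K × K) => g (r (0, 0, w))) e
  simp [Prod.ext_iff] at this
  exact ⟨this.1, by simpa [this.1] using this.2⟩

variable (K) in
/-- The additive maps trivial on `K³ / U₃^⊥`, `U₃^⊥ / U₃`, `U₃`. -/
def Ut : Subgroup (AA (K × K × K)) where
  carrier := {g | (∀ v, (g v).1 = v.1) ∧ (∀ v, v.1 = 0 → (g v).2.1 = v.2.1) ∧ ∀ w, g (0, 0, w) = (0, 0, w)}
  one_mem' := ⟨fun _ => rfl, fun _ _ => rfl, fun _ => rfl⟩
  mul_mem' := fun {a b} ha hb => ⟨fun v => (ha.1 (b v)).trans (hb.1 v),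
    fun v hv => (ha.2.1 (b v) ((hb.1 v).trans hv)).trans (hb.2.1 v hv),
    fun w => by rw [LinearEquiv.mul_apply, hb.2.2, ha.2.2]⟩
  inv_mem' := fun {a} ha => have k : ∀ v, (a⁻¹ v).1 = v.1 := fun v => by simpa using (ha.1 (a⁻¹ v)).symm
    ⟨k, fun v hv => by simpa using (ha.2.1 _ ((k v).trans hv)).symm,
      fun w => a.symm_apply_eq.2 (ha.2.2 w).symm⟩

theorem T3_le_Ut : T3 K ≤ Ut K := by
  rintro _ ⟨b, c, -, rfl⟩
  exact ⟨fun _ => rfl, fun v hv => by simp [hv], fun w => by simp⟩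

theorem isPGroup_Ut : IsPGroup p (Ut K) := fun ⟨g, h1, h2, h3⟩ => ⟨2, Subtype.ext (LinearEquiv.toLinearMap_injective (by
  have hp : p.Prime := Fact.out
  have : CharP (Module.End ℤ (K × K × K)) p := (CharP.charP_iff_prime_eq_zero hp).2 (LinearMap.ext fun v => by
    simp [Prod.ext_iff])
  have e : ((g : Module.End ℤ (K × K × K)) - 1) ^ 3 = 0 := LinearMap.ext fun v => by
    have k1 : (g v - v).1 = 0 := sub_eq_zero.2 (h1 v)
    have k2 : g (g v - v) - (g v - v) = (0, 0, (g (g v - v) - (g v - v)).2.2) :=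
      Prod.ext (sub_eq_zero.2 (h1 _)) (Prod.ext (sub_eq_zero.2 (h2 _ k1)) rfl)
    change g (g (g v - v) - (g v - v)) - (g (g v - v) - (g v - v)) = 0
    rw [k2, h3, sub_self]
  have := pow_eq_zero_of_le (show 3 ≤ p ^ 2 by nlinarith [hp.two_le]) e
  rw [sub_pow_char_pow_of_commute _ _ (Commute.one_right _), one_pow, sub_eq_zero] at this
  exact (map_pow LinearEquiv.automorphismGroup.toLinearMapMonoidHom g _).trans this))⟩

/-- `(t - 1) ^ 3 = 0`. -/
theorem isPGroup_T3 : IsPGroup p (T3 K) := isPGroup_Ut.to_le T3_le_Ut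

namespace LA1
variable (H : LA1 p L)
include H

theorem om_zero (hg : g ∈ L) {u v : K × K × K} : om (g u) (g v) = 0 ↔ om u v = 0 :=
  ⟨fun e => by
    simpa [om_self] using H.omc _ (inv_mem hg) _ _ 0 0 (e.trans (om_self 0).symm),
    fun e => by simpa [om_self] using H.omc g hg _ _ 0 0 (e.trans (om_self 0).symm)⟩
/-- Conjugates of isometries are isometries (`H.omc`). -/
theorem iso_conj (hg : g ∈ L) (hh : ∀ u v, om (h u) (h v) = om u v) (u v : K × K × K) :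
    om ((g * h * g⁻¹) u) ((g * h * g⁻¹) v) = om u v := by
  simpa using H.omc g hg _ _ _ _ (hh (g⁻¹ u) (g⁻¹ v))
/-- `exists_smul_of_perp`. -/
theorem smul (hg : g ∈ L) {s : K} (hs : σ s = s) (v : K × K × K) :
    ∃ s' : K, σ s' = s' ∧ g (s • v) = s' • g v := by
  by_cases e : v = 0
  · exact ⟨0, map_zero _, by simp [e]⟩
  refine exists_smul_of_perp (mt g.map_eq_zero_iff.1 e) fun w hw => ?_
  obtain ⟨w, rfl⟩ := g.surjective w
  rw [H.om_zero hg] at hw ⊢
  rw [om_smul_left hs, hw, mul_zero]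
omit H [Bar K] [CharP K p] [Fact p.Prime] in
theorem pg_zpowers {n : ℕ} (h : g ^ p ^ n = 1) : IsPGroup p (zpowers g) := by
  rintro ⟨_, k, rfl⟩
  exact ⟨n, Subtype.ext (show (g ^ k) ^ p ^ n = 1 by rw [← zpow_natCast, zpow_comm, zpow_natCast, h, one_zpow])⟩
/-- Sylow (`Transfer.exists_conj_le_of_not_dvd_relIndex'`). -/
theorem exists_conj (hg : g ∈ L) {n : ℕ} (h : g ^ p ^ n = 1) : ∃ y ∈ L, y * g * y⁻¹ ∈ T3 K :=
  (Transfer.exists_conj_le_of_not_dvd_relIndex' H.syl (pg_zpowers h) (zpowers_le.2 hg)).imp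
    fun _ hy => ⟨hy.1, Transfer.conj_le_iff.1 hy.2 g (mem_zpowers g)⟩
/-- `T3 ⊔ zpowers g` is a `p`-subgroup of `L` over the Sylow subgroup `T3`. -/
theorem mem_T3 (hg : g ∈ L) (hn : g ∈ N3 K) {n : ℕ} (h : g ^ p ^ n = 1) : g ∈ T3 K :=
  (Transfer.eq_of_not_dvd_relIndex_of_le H.syl (isPGroup_T3.to_sup_of_normal_left' (pg_zpowers h) (zpowers_le.2 hn))
    (sup_le H.le (zpowers_le.2 hg)) le_sup_left).ge (mem_sup_right (mem_zpowers g))
/-- `mem_T3`, `H.ti`. -/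
theorem ti' (hg : g ∈ L) {t : AA (K × K × K)} (ht : t ∈ T3 K) (h1 : t ≠ 1) (h : g * t * g⁻¹ ∈ N3 K) :
    g ∈ N3 K := by
  obtain ⟨n, e⟩ := isPGroup_T3 (p := p) ⟨t, ht⟩
  exact H.ti g hg t ht h1 (H.mem_T3 (mul_mem (mul_mem hg (H.le ht)) (inv_mem hg)) h (n := n) (by
    rw [conj_pow, show t ^ p ^ n = 1 from congrArg Subtype.val e, mul_one, mul_inv_cancel]))

/-- (A0) `g` preserves `U₃` (finite, injective) and `U₃^⊥` (`om_zero`), so it normalizes the group `C` of the elements of `L`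
acting trivially on `U₃`, `U₃^⊥ / U₃`, `K³ / U₃^⊥`; `C` is a `p`-group (`(c - 1) ^ 3 = 0`, `c ^ p ^ 2 = 1`) over `T3`, so
`C = T3` (`Transfer.eq_of_not_dvd_relIndex_of_le`). -/
theorem fixU (hg : g ∈ L) (h : ∀ w, (g (0, 0, w)).1 = 0 ∧ (g (0, 0, w)).2.1 = 0) : g ∈ N3 K := by
  have e := Transfer.eq_of_not_dvd_relIndex_of_le H.syl (isPGroup_Ut.to_inf_right (H := L)) inf_le_left
    (le_inf H.le T3_le_Ut)
  have k0 : ∀ w, g (0, 0, w) = (0, 0, (g (0, 0, w)).2.2) := fun w => Prod.ext (h w).1 (Prod.ext (h w).2 rfl)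
  have k1 : ∀ x, ∃ w, g (0, 0, w) = (0, 0, x) := fun x => by
    obtain ⟨w, rfl⟩ := Finite.surjective_of_injective (f := fun w => (g (0, 0, w)).2.2)
      (fun a b e => by simpa using g.injective (a₁ := (0, 0, a)) (a₂ := (0, 0, b)) (by rw [k0 a, k0 b]; simpa using e)) x
    exact ⟨w, k0 w⟩
  have k2 : ∀ y, (g y).1 = 0 ↔ y.1 = 0 := fun y => ⟨fun e => fst_of_om fun w => (H.om_zero hg).1
    (om_of_fst e (h w).1 (h w).2), fun e => fst_of_om fun x => by
      obtain ⟨w, hw⟩ := k1 x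
      rw [← hw, H.om_zero hg, om_of_fst e rfl rfl]⟩
  refine inv_mem_iff.1 (mem_normalizer_fintype fun t ht => e.ge ⟨L.mul_mem (L.mul_mem (L.inv_mem hg) (H.le ht))
    (L.inv_mem (L.inv_mem hg)), fun v => sub_eq_zero.1 ((k2 (_ - v)).1 ?_), fun v hv => ?_, fun w => ?_⟩)
  · simpa [sub_eq_zero] using (T3_le_Ut ht).1 (g v)
  · obtain ⟨w, hw⟩ := k1 (t (g v) - g v).2.2
    have : (g⁻¹ * t * g⁻¹⁻¹) v - v = (0, 0, w) := g.injective (by
      simpa [hw, Prod.ext_iff, sub_eq_zero] using ⟨(T3_le_Ut ht).1 _, (T3_le_Ut ht).2.1 _ ((k2 v).2 hv)⟩)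
    exact sub_eq_zero.1 (congrArg (·.2.1) this)
  · have : t (g (0, 0, w)) = g (0, 0, w) := by rw [k0 w, (T3_le_Ut ht).2.2]
    simp [this]

omit H [Fact p.Prime] [CharP K p] in
theorem exists_z : ∃ z ∈ T3 K, z ≠ 1 ∧ ∀ v, v.1 = 0 → z v = v := by
  obtain ⟨c, c0, hc⟩ := isb.exists_skew (F := K)
  exact ⟨t3 0 c, ⟨0, c, by simp [hc], rfl⟩, fun e => c0 (by
    simpa using congrArg (fun r : AA (K × K × K) => (r (1, 0, 0)).2.2) e), fun v hv => by simp [hv, Prod.ext_iff]⟩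

/-- (A1) `g U₃ ⊥ U₃`.  `z = t3 0 c`, `0 ≠ c` skew, fixes `U₃^⊥`, so `g z g⁻¹` fixes `(g U₃)^⊥ ⊇ U₃` pointwise; `fixU`, `ti'`. -/
theorem perpU (hg : g ∈ L) (h : ∀ w, (g (0, 0, w)).1 = 0) : g ∈ N3 K := by
  obtain ⟨z, hz, z1, e⟩ := exists_z (K := K)
  have k : ∀ x, (g * z * g⁻¹) (0, 0, x) = (0, 0, x) := fun x => by
    rw [LinearEquiv.mul_apply, LinearEquiv.mul_apply, e _ (fst_of_om fun w => (H.om_zero hg).1 (by
      rw [om_swap, om_of_fst (h w) (by simp) (by simp), neg_zero]))]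
    simp
  exact H.ti' hg hz z1 (H.fixU (mul_mem (mul_mem hg (H.le hz)) (inv_mem hg)) fun w => by simp only [k, and_self])

theorem star (hg : g ∈ L) {a b : K} (a0 : a ≠ 0) (ha : (g (0, 0, a)).1 = 0) (hb : (g (0, 0, b)).1 ≠ 0)
    {t : AA (K × K × K)} (ht : t ∈ T3 K) (t1 : t ≠ 1) (h1 : t (g (0, 0, a)) = g (0, 0, a))
    (h2 : om (g (0, 0, b)) (t (g (0, 0, b))) = 0) : g ∈ N3 K := by
  have two : ∀ y : K × K × K, om y (0, 0, a) = 0 → om y (0, 0, b) = 0 → y.1 = 0 := fun y e1 e2 => by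
    by_contra y0
    rw [om_U] at e1 e2
    obtain ⟨s, -, e⟩ := H.smul hg (s := b / a) (by
      rw [map_div₀, div_eq_div_iff (mt σ_eq_zero.1 a0) a0]
      exact mul_left_cancel₀ y0 (by linear_combination a * e2 - b * e1)) (0, 0, a)
    simp only [Prod.smul_mk, smul_eq_mul, mul_zero, div_mul_cancel₀ _ a0] at e
    exact hb (by simp [e, ha])
  have i := H.iso_conj (inv_mem hg) (om_T3 ht)
  have m := mul_mem (mul_mem (inv_mem hg) (H.le ht)) (inv_mem (inv_mem hg))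
  have z : ∀ u v, om (g u) (t (g v)) = 0 → om u ((g⁻¹ * t * g⁻¹⁻¹) v) = 0 := fun u v e =>
    (H.om_zero hg).1 (by simpa using e)
  have ab : om (g (0, 0, a)) (g (0, 0, b)) = 0 := (H.om_zero hg).2 (om_of_fst rfl rfl rfl)
  have z1 := z (0, 0, a) (0, 0, a) (by rw [h1, om_self])
  have z2 := z (0, 0, b) (0, 0, a) (by rw [h1, om_swap, ab, neg_zero])
  have z3 := z (0, 0, a) (0, 0, b) (by rw [← h1, om_T3 ht, ab])
  have z4 := z _ _ h2
  refine inv_mem_iff.1 (H.ti' (inv_mem hg) ht t1 (H.perpU m ?_))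
  generalize g⁻¹ * t * g⁻¹⁻¹ = r at i z1 z2 z3 z4
  have i' : ∀ u v, om (r⁻¹ u) v = om u (r v) := fun u v => by simpa using (i (r⁻¹ u) v).symm
  have k : ∀ w c, (r⁻¹ (0, 0, c)).1 = 0 → om (r (0, 0, w)) (0, 0, c) = 0 := fun w c e => by
    rw [om_swap, ← i', om_of_fst e rfl rfl, neg_zero]
  exact fun w => two _ (k w a (two _ (i' .. ▸ z1) (i' .. ▸ z3))) (k w b (two _ (i' .. ▸ z2) (i' .. ▸ z4)))

theorem of_mem_U (hg : g ∈ L) {a : K} (a0 : a ≠ 0) (ha : (g (0, 0, a)).1 = 0) (ha' : (g (0, 0, a)).2.1 = 0) :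
    g ∈ N3 K := by
  by_contra hn
  obtain ⟨b, hb⟩ := not_forall.1 (mt (H.perpU hg) hn)
  have k : ∀ b c : K, t3 b c (g (0, 0, a)) = g (0, 0, a) := fun b c => by simp [ha, ha', Prod.ext_iff]
  by_cases h2 : (2 : K) = 0
  · exact hn (H.star hg a0 ha hb (t := t3 0 1) ⟨0, 1, by simpa [one_add_one_eq_two] using h2, rfl⟩ (fun e => by
      simpa using congrArg (fun r : AA (K × K × K) => (r (1, 0, 0)).2.2) e) (k ..) (by simp [om, hh]; ring))
  generalize e : g (0, 0, b) = v at hb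
  have hb' : σ v.1 ≠ 0 := mt σ_eq_zero.1 hb
  refine hn (H.star hg a0 ha (e ▸ hb) (t := t3 1 ((-1 - 2 * (v.1 * σ v.2.1 - σ v.1 * v.2.1) / (v.1 * σ v.1)) / 2))
    ⟨_, _, by simp [map_ofNat]; field_simp; ring, rfl⟩ (fun e => by
      simpa using congrArg (fun r : AA (K × K × K) => (r (1, 0, 0)).2.1) e) (k ..) ?_)
  rw [e]
  simp [om, hh, map_ofNat]; field_simp; ring

/-- (A2) Let `u' = g (0, 0, w₀) ≠ 0` have first coordinate `0`; by `perpU` some `v' = g (0, 0, w₁) = (x, y, w)` has `x ≠ 0`;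
`w₀, w₁` are `k`-independent (`smul`), so `g U₃ = k u' + k v'`.  (*) If `1 ≠ t ∈ T3` fixes `u'` and `om v' (t v') = 0`, then
`t g U₃ ⊥ g U₃` (`om u' v' = 0`, `om_T3`), `perpU` for `g⁻¹ t g`, `ti'` for `g⁻¹`: `g ∈ N3`.
`om v' (t3 b c v') = x σ x (σ c - c) - 2 (x σ y b - σ (x σ y b))`.  `p = 2`: `t = t3 0 1` fixes `U₃^⊥`.
`p ≠ 2`: if `u' ∈ U₃` take `b = 1`, `c = (-1 - 2 (x σ y - σ (x σ y)) / (x σ x)) / 2`.  In general `z = t3 0 c` (`0 ≠ c` skew) fixes
`u'`, so `h = g⁻¹ z g` fixes `(0, 0, w₀)`; the previous case gives `h ∈ N3`, `ti'` gives `g⁻¹ ∈ N3`. -/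
theorem opp (hg : g ∈ L) (hn : g ∉ N3 K) {w : K} (h : (g (0, 0, w)).1 = 0) : w = 0 := by
  by_contra w0
  obtain ⟨z, hz, z1, e⟩ := exists_z (K := K)
  have k : (g⁻¹ * z * g⁻¹⁻¹) (0, 0, w) = (0, 0, w) := by simp [e _ h]
  exact hn (inv_mem_iff.1 (H.ti' (inv_mem hg) hz z1 (H.of_mem_U (mul_mem (mul_mem (inv_mem hg) (H.le hz))
    (inv_mem (inv_mem hg))) w0 (by rw [k]) (by rw [k]))))

/-- `opp`, injective maps `K → K` are onto. -/
theorem exists_fst (hg : g ∈ L) (hn : g ∉ N3 K) (x : K) : ∃ w, (g (0, 0, w)).1 = x :=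
  Finite.surjective_of_injective (f := fun w => (g (0, 0, w)).1) (fun a b e => sub_eq_zero.1 (H.opp hg hn (by
    simpa [← map_sub] using congrArg (·.1) (map_sub g (0, 0, a) (0, 0, b)) |>.trans (sub_eq_zero.2 e)))) x

end LA1

end Cfsg.Lib.U5F
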