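import Cfsg.Agent.Lib.U5F.LA1e

/-! # S5258: odd characteristic -/

set_option autoImplicit false

namespace Cfsg.Lib.U5F

open Subgroup

variable {K : Type*} [Field K] [Bar K] {p : ℕ} [Fact p.Prime] [CharP K p]
  {L : Subgroup (AA (K × K × K))} {g i j : AA (K × K × K)}

theorem lab_two (h2 : p ≠ 2) : (2 : K) ≠ 0 := Ring.two_ne_zero (by rwa [ringChar.eq K p])

theorem lab_sub_left (u u' v : K × K × K) : om (u - u') v = om u v - om u' v := by simp [om, hh]; ring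
theorem lab_sub_right (u v v' : K × K × K) : om u (v - v') = om u v - om u v' := by simp [om, hh]; ring

theorem lab_fix {δ : K} (hδ' : σ δ = -δ) (u v : K × K × K) : σ (2 * om u v / δ) = 2 * om u v / δ := by
  rw [map_div₀, map_mul, lae_skew, hδ', map_ofNat, mul_neg, neg_div_neg_eq]

theorem LA1.refl' (H : LA1 p L) (h2 : p ≠ 2) (hg : g ∈ L) (hi : ∀ v, i v = (v.1, -v.2.1, v.2.2))
    {y₁ : K} (hy : y₁ ≠ 0) {δ : K} (hδ : δ ≠ 0) (hδ' : σ δ = -δ) : ∃ u, (∃ y, u = g (0, y, 0)) ∧ om (g (0, y₁, 0)) u = δ ∧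
      (∀ y, ∃ r s : K, σ r = r ∧ σ s = s ∧ g (0, y, 0) = r • g (0, y₁, 0) + s • u) ∧
      ∀ v, (g * i * g⁻¹) v = v - (2 * om v u / δ) • g (0, y₁, 0) + (2 * om v (g (0, y₁, 0)) / δ) • u := by
  have _ := h2
  obtain ⟨ε, hε⟩ := (isb (K := K)).exists_ne
  have n : om (g (0, y₁, 0)) (g (0, ε * y₁, 0)) ≠ 0 := fun e => by
    have := (H.om_zero hg).1 e
    simp only [om, hh, map_mul, map_zero] at this
    exact mul_ne_zero (mul_ne_zero hy (σ_eq_zero.not.2 hy)) (sub_ne_zero.2 hε) (by linear_combination this)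
  have f0 : σ (δ / om (g (0, y₁, 0)) (g (0, ε * y₁, 0))) = δ / om (g (0, y₁, 0)) (g (0, ε * y₁, 0)) := by
    rw [map_div₀, lae_skew, hδ', neg_div_neg_eq]
  have s0 := div_ne_zero hδ n
  have o : om (g (0, y₁, 0)) ((δ / om (g (0, y₁, 0)) (g (0, ε * y₁, 0))) • g (0, ε * y₁, 0)) = δ := by
    rw [om_smul_right f0, div_mul_cancel₀ _ n]
  generalize δ / om (g (0, y₁, 0)) (g (0, ε * y₁, 0)) = s₀ at f0 s0 o
  have sp : ∀ y, ∃ r s : K, σ r = r ∧ σ s = s ∧ g (0, y, 0) = r • g (0, y₁, 0) + s • s₀ • g (0, ε * y₁, 0) := fun y => by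
    obtain ⟨r, s, hr, hs, e⟩ := lae_dec hε (y / y₁)
    obtain ⟨r', hr', e1⟩ := H.smul hg hr (0, y₁, 0)
    obtain ⟨s', hs', e2⟩ := H.smul hg hs (0, ε * y₁, 0)
    refine ⟨r', s' / s₀, hr', by rw [map_div₀, hs', f0], ?_⟩
    rw [smul_smul, div_mul_cancel₀ _ s0, ← e1, ← e2, ← map_add]
    congr 1
    ext <;> simp
    rw [← mul_assoc, ← add_mul, ← e, div_mul_cancel₀ _ hy]
  obtain ⟨s', -, e⟩ := H.smul (inv_mem hg) f0 (g (0, ε * y₁, 0))
  have eu : s₀ • g (0, ε * y₁, 0) = g (0, s' * (ε * y₁), 0) := by rw [← lae_inv' g (s₀ • _), e, lae_inv]; simp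
  refine ⟨_, ⟨_, eu⟩, o, sp, fun v => ?_⟩
  obtain ⟨a, rfl⟩ := g.surjective v
  obtain ⟨r, s, hr, hs, e1⟩ := sp (2 * a.2.1)
  have e2 : (g * i * g⁻¹) (g a) = g a - g (0, 2 * a.2.1, 0) := by
    rw [LinearEquiv.mul_apply, LinearEquiv.mul_apply, lae_inv, hi, ← map_sub]
    congr 1; ext <;> simp; ring
  have e3 : ∀ y, 2 * om (g a) (g (0, y, 0)) = om (g (0, 2 * a.2.1, 0)) (g (0, y, 0)) := fun y => by
    have := (H.om_zero hg (u := (2 * a.1, 0, 2 * a.2.2)) (v := (0, y, 0))).2 (by simp [om, hh])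
    rw [two_mul, ← om_add_left, ← map_add, show a + a = (2 * a.1, 0, 2 * a.2.2) + (0, 2 * a.2.1, 0) by ext <;> simp [two_mul],
      map_add, om_add_left, this, zero_add]
  have e4 := e3 y₁
  have e5 := e3 (s' * (ε * y₁))
  rw [← eu] at e5
  rw [e1, om_add_left, om_smul_left hr, om_smul_left hs, om_self] at e4 e5
  rw [om_swap (s₀ • _), o] at e4
  rw [e2, e1, e4, e5, o]
  generalize s₀ • g (0, ε * y₁, 0) = u
  ext <;> simp <;> field_simp <;> ring

/-- The product of two reflections with a common vector. -/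
theorem lab_comp {y u u' : K × K × K} {δ : K} (hδ : δ ≠ 0) (hδ' : σ δ = -δ) (o : om y u = δ) (o' : om y u' = δ)
    (o2 : om u' u = 0) (hi : ∀ v, i v = v - (2 * om v u / δ) • y + (2 * om v y / δ) • u)
    (hj : ∀ v, j v = v - (2 * om v u' / δ) • y + (2 * om v y / δ) • u') (v : K × K × K) :
    (i * j) v = v - ((2 * om v (u - u') / δ) • y + (2 * om v y / δ) • (u - u')) := by
  rw [LinearEquiv.mul_apply, hj, hi, om_add_left, om_add_left, lab_sub_left, lab_sub_left, om_smul_left (lab_fix hδ' _ _),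
    om_smul_left (lab_fix hδ' _ _), om_smul_left (lab_fix hδ' _ _), om_smul_left (lab_fix hδ' _ _), o, o2, om_self,
    om_swap u' y, o', lab_sub_right]
  ext <;> simp <;> field_simp <;> ring

theorem LA1.exists_perp (H : LA1 p L) (h2 : p ≠ 2) (hg : g ∈ L) :
    ∃ a : K × K, a ≠ 0 ∧ ∀ w, om (g (0, 0, w)) (0, a) = 0 := by
  obtain ⟨ε, hε⟩ := (isb (K := K)).exists_ne
  have : ¬ Function.Injective fun a : K × K => (om (g (0, 0, 1)) (0, a), om (g (0, 0, ε)) (0, a)) := fun hf => by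
    obtain ⟨a, ha⟩ := Finite.surjective_of_injective hf (1, 0)
    have := lae_skew (g (0, 0, 1)) (0, a)
    rw [show om (g (0, 0, 1)) (0, a) = 1 from congrArg Prod.fst ha, map_one] at this
    exact lab_two h2 (by linear_combination this)
  obtain ⟨a, b, e, ne⟩ := Function.not_injective_iff.1 this
  refine ⟨a - b, sub_ne_zero.2 ne, fun w => ?_⟩
  obtain ⟨r, s, hr, hs, rfl⟩ := lae_dec hε w
  obtain ⟨r', hr', e1⟩ := H.smul hg hr (0, 0, 1)
  obtain ⟨s', hs', e2⟩ := H.smul hg hs (0, 0, ε)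
  rw [show ((0, 0, r + s * ε) : K × K × K) = r • (0, 0, 1) + s • (0, 0, ε) by simp, map_add, e1, e2, om_add_left,
    om_smul_left hr', om_smul_left hs', show ((0, a - b) : K × K × K) = (0, a) - (0, b) by simp, lab_sub_right, lab_sub_right,
    (Prod.mk.inj e).1, (Prod.mk.inj e).2]
  simp

/-- A quadratic element of `L` moves vectors into a conjugate of `U₃`. -/
theorem LA1.quad (H : LA1 p L) (hg : g ∈ L) (h : ∀ v, g (v - g v) = v - g v) {v : K × K × K} (h1 : (v - g v).1 = 0) :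
    (v - g v).2.1 = 0 := by
  have k : ∀ (n : ℕ) v, (g ^ n) v = v - (n : K) • (v - g v) := fun n v => by
    induction n with
    | zero => simp
    | succ n ih =>
      rw [pow_succ', LinearEquiv.mul_apply, ih, map_sub, Nat.cast_smul_eq_nsmul, map_nsmul, h, ← Nat.cast_smul_eq_nsmul K]
      push_cast; module
  obtain ⟨y, hy, b, c, -, e⟩ := H.exists_conj hg (n := 1) (LinearEquiv.ext fun v => by rw [k]; simp)
  have e1 : ∀ v, y (g v) = t3 b c (y v) := fun v => by rw [← e, LinearEquiv.mul_apply, LinearEquiv.mul_apply, lae_inv]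
  obtain rfl : b = 0 := by
    obtain ⟨v, hv⟩ := y.surjective (1, 0, 0)
    have := e1 (v - g v)
    rw [h, map_sub, e1, hv] at this
    have := congrArg (·.2.2) this
    simpa [σ_eq_zero] using this
  have e2 : v - g v = y⁻¹ (0, 0, -((y v).1 * c)) := by
    rw [← lae_inv y (v - g v), map_sub, e1]; congr 1; ext <;> simp
  rw [e2] at h1 ⊢
  by_cases n : y⁻¹ ∈ N3 K
  · exact (N3_U n _).2
  · rw [H.opp (inv_mem hy) n h1, show ((0, 0, 0) : K × K × K) = 0 from rfl, map_zero]; rfl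

theorem lab_t3 {y : K} (hy : y ≠ 0) (w : K) : ∃ t ∈ T3 K, ∀ z, t (0, z, 0) = (0, z, w / y * z) := by
  have _ := hy
  obtain ⟨c, hc⟩ := lae_t3 (-σ (w / y))
  exact ⟨_, hc, fun z => by simp [mul_comm]⟩

/-- `j = g i g⁻¹` is an isometry (`iso_conj`), `k`-linear, `j ^ 2 = 1`; `E = g E₀ = k y₀ + k u` (`y₀ = g (0, y₁, 0)`,
`u ∈ k g (0, ε y₁, 0)`, `ε ∉ k`, `LA1.smul`; `om y₀ u ≠ 0` by `om_zero`, rescale `u`).  `v - j v ∈ E` and `v + j v ⊥ E`. -/
theorem LA1.refl (H : LA1 p L) (h2 : p ≠ 2) (hg : g ∈ L) (hi : ∀ v, i v = (v.1, -v.2.1, v.2.2))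
    {y₁ : K} (hy : y₁ ≠ 0) {δ : K} (hδ : δ ≠ 0) (hδ' : σ δ = -δ) : ∃ u, om (g (0, y₁, 0)) u = δ ∧
      (∀ y, ∃ r s : K, σ r = r ∧ σ s = s ∧ g (0, y, 0) = r • g (0, y₁, 0) + s • u) ∧
      ∀ v, (g * i * g⁻¹) v = v - (2 * om v u / δ) • g (0, y₁, 0) + (2 * om v (g (0, y₁, 0)) / δ) • u := by
  obtain ⟨u, -, h⟩ := H.refl' h2 hg hi hy hδ hδ'
  exact ⟨u, h⟩

/-- (A3) `E' = U₃^⊥ ⊓ (g U₃)^⊥` is a `K`-line.  `E' ≠ 0`: the additive map `(y, w) ↦ (om (0, y, w) (g (0, 0, 1)), om (0, y, w) (g (0, 0, ε)))`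
from `K²` to `K₀²` has a kernel, and `g U₃` is `k`-spanned by these two (`smul`).  `E' ⊓ U₃ = 0` (`opp` for `g⁻¹`),
`E' ⊓ g U₃ = 0` (`opp`).  Let `0 ≠ y₀ = (0, y₁, w₁) ∈ E'`; `y₀ = t (0, y₁, 0)`, `g⁻¹ y₀ = t' (0, y₂, 0)` with `t, t' ∈ T3`,
`y₁, y₂ ≠ 0`.  `refl` for `t` and `g t'` gives `u, u'`; replace `u'` by `u' + s y₀` (`s ∈ k`, the formula is unchanged) so that
`om u u' = 0`; `r = u - u'` is orthogonal to `y₀, u, u'`.  If `r ∈ k y₀` then `t E₀ = g t' E₀ ≤ E'`, and `m = w₁ / y₁` works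
(`E' ⊓ U₃ = 0`).  Else `φ = j j'` is `v ↦ v - (2 om v r / δ) y₀ - (2 om v y₀ / δ) r`, `(φ - 1) ^ 2 = 0`, `φ ^ p = 1`, and `y₀` is a
`k`-multiple of some `φ v - v` (`exists_smul_of_perp`: some `v ⊥ y₀`, `om v r ≠ 0`).  `h φ h⁻¹ = t3 b c` (`exists_conj`),
`(t3 b c - 1) ^ 2 = 0` forces `b = 0`, so `h y₀ ∈ U₃`, `h⁻¹ ∈ N3` by `opp`, `y₀ ∈ U₃`, false. -/
theorem LA1.line (H : LA1 p L) (h2 : p ≠ 2) (hg : g ∈ L) (hn : g ∉ N3 K) :
    ∃ m : K, ∀ y w : K, om (g (0, 0, w)) (0, y, m * y) = 0 := by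
  obtain ⟨δ, hδ, hδ'⟩ := (isb (K := K)).exists_skew
  obtain ⟨i, hi, ei⟩ := H.inv h2
  obtain ⟨⟨y₁, w₁⟩, ne, perp⟩ := H.exists_perp h2 hg
  have y1 : y₁ ≠ 0 := by
    rintro rfl
    refine ne (Prod.ext rfl (eq_zero_of_im fun x => ?_))
    obtain ⟨w, rfl⟩ := H.exists_fst hg hn x
    have := perp w
    simp only [om, hh, map_zero] at this
    linear_combination -this
  obtain ⟨⟨x, y₂, w₂⟩, ea⟩ := g.surjective (0, y₁, w₁)
  obtain rfl : x = 0 := eq_zero_of_im fun w => by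
    have := perp w
    rw [← ea, H.om_zero hg] at this
    simp only [om, hh, map_zero] at this
    linear_combination -this
  have y2 : y₂ ≠ 0 := by
    rintro rfl
    rw [H.opp hg hn (w := w₂) (by rw [ea]), show ((0, 0, 0) : K × K × K) = 0 from rfl, map_zero] at ea
    exact y1 (congrArg (·.2.1) ea).symm
  obtain ⟨t, ht, et⟩ := lab_t3 y1 w₁
  obtain ⟨t', ht', et'⟩ := lab_t3 y2 w₂
  have hr := mul_mem hg (H.le ht')
  obtain ⟨u, -, o, sp, fj⟩ := H.refl' h2 (H.le ht) ei y1 hδ hδ'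
  obtain ⟨u', ⟨y', eu⟩, o', -, fj'⟩ := H.refl' h2 hr ei y2 hδ hδ'
  have pu : ∀ w, om (g (0, 0, w)) u' = 0 := fun w => by
    rw [eu, LinearEquiv.mul_apply, H.om_zero hg, et']; simp [om, hh]
  rw [LinearEquiv.mul_apply g t', et', div_mul_cancel₀ _ y2, ea] at o' fj'
  rw [et, div_mul_cancel₀ _ y1] at o sp fj
  have hj := mul_mem (mul_mem (mul_mem (H.le ht) hi) (inv_mem (H.le ht))) (mul_mem (mul_mem hr hi) (inv_mem hr))
  have fs : σ (om u u' / δ) = om u u' / δ := by rw [map_div₀, lae_skew, hδ', neg_div_neg_eq]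
  have z1 : ((0, y₁, w₁) : K × K × K).1 = 0 := rfl
  have z2 : ((0, y₁, w₁) : K × K × K).2.1 ≠ 0 := y1
  generalize ((0, y₁, w₁) : K × K × K) = y₀ at *
  obtain ⟨u'', e⟩ : ∃ u'', u'' = u' + (om u u' / δ) • y₀ := ⟨_, rfl⟩
  have p1 : om y₀ u'' = δ := by rw [e, om_add_right, om_smul_right fs, om_self, o', mul_zero, add_zero]
  have p2 : om u'' u = 0 := by rw [e, om_add_left, om_smul_left fs, o, div_mul_cancel₀ _ hδ, om_swap u', neg_add_cancel]
  have p3 : ∀ w, om (g (0, 0, w)) u'' = 0 := fun w => by rw [e, om_add_right, om_smul_right fs, pu, perp, mul_zero, add_zero]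
  have f := lab_comp hδ hδ' o p1 p2 fj (j := g * t' * i * (g * t')⁻¹) fun v => by
    rw [fj', e, om_add_right, om_smul_right fs]
    ext <;> simp <;> ring
  by_cases c : ∀ v, om y₀ v = 0 → om (u - u'') v = 0
  · obtain ⟨κ, hκ, e'⟩ := exists_smul_of_perp (fun e => z2 (by rw [e]; rfl)) c
    refine ⟨w₁ / y₁, fun y w => ?_⟩
    obtain ⟨r, s, hr, hs, e1⟩ := sp y
    rw [← et, e1, eq_add_of_sub_eq e', om_add_right, om_smul_right hr, om_smul_right hs, om_add_right, om_smul_right hκ, perp, p3]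
    simp
  push Not at c
  obtain ⟨v, v1, v2⟩ := c
  have q : om y₀ (u - u'') = 0 := by rw [lab_sub_right, o, p1, sub_self]
  have := H.quad hj (fun v => by
    rw [f v, sub_sub_cancel, f, om_add_left, om_add_left, om_smul_left (lab_fix hδ' _ _), om_smul_left (lab_fix hδ' _ _),
      om_smul_left (lab_fix hδ' _ _), om_smul_left (lab_fix hδ' _ _), q, om_self, om_self, om_swap (u - u'') y₀, q]
    simp) (v := v) (by rw [f, om_swap v y₀, v1]; simp [z1])
  rw [f, om_swap v y₀, v1, om_swap] at this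
  simp [z2, hδ, lab_two h2, v2] at this

/-- The correction in odd characteristic. -/
def th1 (d : K) : AA (K × K × K) := AddEquiv.toIntLinearEquiv
  { toFun v := (v.1, v.2.1, v.2.2 + d * σ v.1)
    invFun v := (v.1, v.2.1, v.2.2 - d * σ v.1)
    left_inv v := by ext <;> simp
    right_inv v := by ext <;> simp
    map_add' u v := by ext <;> simp; ring }
theorem th1_apply (d : K) (v : K × K × K) : th1 d v = (v.1, v.2.1, v.2.2 + d * σ v.1) := rfl

theorem LA1.odd_ne (H : LA1 p L) (h2 : p ≠ 2) (hg : g ∈ L) (hn : g ∉ N3 K) {d : K} (th : Th (th1 d) g) {t s : AA (K × K × K)}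
    (ht : t ∈ T3 K) (hs : s = (th1 d)⁻¹ * (g * t * g⁻¹) * th1 d) {y₀ : K} (γ : (s (0, y₀, 0)).1 ≠ 0) : s ∈ S3 K := by
  obtain ⟨i1, i2, i3, i4⟩ := H.shape hg th ht hs
  obtain ⟨i, hi, ei⟩ := H.inv h2
  have hr := mul_mem (mul_mem hg (H.le ht)) (inv_mem hg)
  have nr : g * t * g⁻¹ ∉ N3 K := fun e => hn (H.ti' hg ht (by rintro rfl; simp [hs] at γ) e)
  have er : ∀ v, (g * t * g⁻¹) (th1 d v) = th1 d (s v) := fun v => by
    rw [hs, LinearEquiv.mul_apply _ (th1 d), LinearEquiv.mul_apply (th1 d)⁻¹, lae_inv']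
  generalize g * t * g⁻¹ = r at hr nr er
  have e0 : ∀ y, r (0, y, 0) = ((s (0, y, 0)).1, y, d * σ (s (0, y, 0)).1) := fun y => by
    have := er (0, y, 0)
    rw [th1_apply, th1_apply, i3] at this
    simpa using this
  have e1 : ∀ w, r (0, 0, w) = th1 d (s (0, 0, w)) := fun w => by rw [← er, th.fix]
  have hj := mul_mem (mul_mem hr hi) (inv_mem hr)
  have ej : ∀ v, (r * i * r⁻¹) v = v - r (0, 2 * (r⁻¹ v).2.1, 0) := fun v => by
    obtain ⟨a, rfl⟩ := r.surjective v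
    rw [LinearEquiv.mul_apply, LinearEquiv.mul_apply, lae_inv, ei, ← map_sub]
    congr 1; ext <;> simp; ring
  have nj : r * i * r⁻¹ ∉ N3 K := fun e => γ (eq_zero_of_im fun w => by
    have a := (N3_U e w).2
    rw [ej, e0] at a
    have b := (H.om_zero hr (u := r⁻¹ (0, 0, w)) (v := (0, y₀, 0))).2 (by
      simp only [Prod.snd_sub, Prod.fst_sub, zero_sub, neg_eq_zero, mul_eq_zero, lab_two h2, false_or] at a
      simp only [om, hh, a]; simp)
    rw [lae_inv', e0] at b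
    simp only [om, hh, map_zero] at b
    linear_combination -b)
  have su : Function.Surjective fun w => 2 * (r⁻¹ (0, 0, w)).2.1 := Finite.surjective_of_injective fun a b e =>
    sub_eq_zero.1 (H.opp hj nj (by
      rw [show ((0, 0, a - b) : K × K × K) = (0, 0, a) - (0, 0, b) by simp, map_sub, ej, ej, show 2 * (r⁻¹ (0, 0, a)).2.1 = _ from e]
      simp))
  obtain ⟨m, hm⟩ := H.line h2 hj nj
  have g1 : ∀ y, (s (0, y, 0)).1 * σ m + y = 0 := fun y => eq_zero_of_im fun y' => by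
    obtain ⟨w, rfl⟩ := su y
    have := hm y' w
    rw [ej, e0] at this
    simp only [om, hh, map_zero, map_mul, map_add, map_sub, Prod.fst_sub, Prod.snd_sub, σσ] at this ⊢
    linear_combination -this
  have m0 : σ m ≠ 0 := fun e => by simpa [e] using g1 1
  have m0' : m ≠ 0 := σ_eq_zero.not.1 m0
  have g2 : ∀ w, (s (0, 0, w)).2.1 = m⁻¹ * w := fun w => sub_eq_zero.1 (eq_zero_of_im fun y => by
    have := i1 (0, 0, w) (0, y, 0)
    have a := g1 y
    have a' := congrArg σ a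
    simp only [om, hh, map_zero, map_mul, map_add, map_sub, map_inv₀, σσ, i3, i4] at this a' ⊢
    field_simp
    linear_combination (m * σ m) * this - (w * σ m) * a' + (m * σ w) * a)
  obtain ⟨m', hm'⟩ := H.line h2 hr nr
  have g3 : ∀ w, (s (0, 0, w)).1 * σ m' + m⁻¹ * w = 0 := fun w => eq_zero_of_im fun y => by
    have := hm' y w
    rw [e1, th1_apply, g2] at this
    simp only [om, hh, map_zero, map_mul, map_add, σσ] at this ⊢
    linear_combination this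
  have m1 : σ m' ≠ 0 := fun e => by simpa [e, m0'] using g3 1
  exact mem_S3_of i1 i2 i3 (α := m⁻¹) (β := -m⁻¹ / σ m') fun w => Prod.ext (by
    field_simp
    have := g3 w
    field_simp at this
    linear_combination this) (Prod.ext (g2 w) (i4 w))

theorem LA1.odd_core (H : LA1 p L) (h2 : p ≠ 2) (hg : g ∈ L) (hn : g ∉ N3 K) {d : K}
    (hc : ∀ w, (g (0, 0, w)).2 = (0, d * σ (g (0, 0, w)).1)) : Cc1 L g := by
  have pt : ∀ w, g (0, 0, w) = th1 d ((g (0, 0, w)).1, 0, 0) := fun w => by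
    rw [th1_apply]; exact Prod.ext rfl (by simpa using hc w)
  have th : Th (th1 d) g := by
    refine ⟨?_, fun u v => ?_, fun w => by simp [th1_apply], fun w => by rw [pt, lae_inv]; rfl⟩
    · rintro _ ⟨b, e, -, rfl⟩
      refine LinearEquiv.ext fun v => ?_
      simp only [LinearEquiv.mul_apply, th1_apply, t3_apply]
      ext <;> simp only
      ring
    · simp only [om, hh, th1_apply, map_add, map_mul, σσ]
      ring
  have hs : ∀ t ∈ T3 K, (th1 d)⁻¹ * (g * t * g⁻¹) * th1 d ∈ S3 K := fun t ht => by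
    by_cases c : ((th1 d)⁻¹ * (g * t * g⁻¹) * th1 d) (0, 1, 0) = (0, 1, 0)
    swap
    · exact H.odd_ne h2 hg hn th ht rfl fun e => c (Prod.ext e ((H.shape hg th ht rfl).2.2.1 1))
    obtain ⟨c₁, h1⟩ := lae_t3 (1 : K)
    have γ : (((th1 d)⁻¹ * (g * t3 1 c₁ * g⁻¹) * th1 d) (0, 1, 0)).1 ≠ 0 := fun e => by
      have a : ((th1 d)⁻¹ * (g * t3 1 c₁ * g⁻¹) * th1 d) (0, 1, 0) = (0, 1, 0) := Prod.ext e ((H.shape hg th h1 rfl).2.2.1 1)
      have b : th1 d (0, 1, 0) = (0, 1, 0) := by simp [th1_apply]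
      obtain ⟨⟨x, y, w⟩, ea⟩ := g.surjective (0, 1, 0)
      rw [LinearEquiv.mul_apply, b, LinearEquiv.mul_apply, ← (th1 d).injective.eq_iff, lae_inv', b, LinearEquiv.mul_apply,
        LinearEquiv.mul_apply, ← ea, lae_inv, g.injective.eq_iff] at a
      obtain rfl : x = 0 := by simpa using congrArg (·.2.1) a
      obtain rfl : y = 0 := by simpa using congrArg (·.2.2) a
      have := hc w
      rw [ea] at this
      simp at this
    have e : (th1 d)⁻¹ * (g * (t3 1 c₁ * t) * g⁻¹) * th1 d =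
      (th1 d)⁻¹ * (g * t3 1 c₁ * g⁻¹) * th1 d * ((th1 d)⁻¹ * (g * t * g⁻¹) * th1 d) := by group
    exact (mul_mem_cancel_left (H.odd_ne h2 hg hn th h1 rfl γ)).1 (H.odd_ne h2 hg hn th (mul_mem h1 ht) e.symm (y₀ := 1) (by
      rwa [LinearEquiv.mul_apply, c]))
  obtain ⟨ε, hε⟩ := (isb (K := K)).exists_ne
  have ε0 : ε ≠ 0 := by rintro rfl; simp at hε
  obtain ⟨m, m1, m2⟩ := H.diag hg th hs ε0
  have f : ∀ x, (m (x, 0, 0)).2.2 = d * (ε⁻¹ - ε) * σ x := fun x => by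
    have e1 := m1 (x, 0, 0)
    have e2 := m1 (0, 0, d * σ x)
    rw [show ((x, 0, 0) : K × K × K) = th1 d (x, 0, 0) - th1 d (0, 0, d * σ x) by simp [th1_apply], map_sub, e1, e2]
    simp [th1_apply]; ring
  have f1 := f ε
  rw [show ((ε, 0, 0) : K × K × K) = ε • (1, 0, 0) by simp, m2, Prod.smul_snd, Prod.smul_snd, f, map_one, smul_eq_mul] at f1
  obtain rfl : d = 0 := by
    by_contra r
    have : d * (1 - ε) * (-1 - ε) * (ε - σ ε) = 0 := by linear_combination (-ε) * f1 + (d * (ε - σ ε)) * mul_inv_cancel₀ ε0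
    simp only [mul_eq_zero, r, false_or, sub_eq_zero] at this
    rcases this with (e | e) | e
    · exact hε (by rw [← e, map_one])
    · exact hε (by rw [← e, map_neg, map_one])
    · exact hε e.symm
  refine H.cc1_of hg th hs ⟨0, 0, by simp, LinearEquiv.ext fun v => ?_⟩
  simp [th1_apply]

/-- Replace `g` by `t g` (`t ∈ T3`): first `m = 0` in `line` (`t3 b c (0, y, m y) = (0, y, 0)`, `σ b = m`), so
`g U₃ = {(x, 0, ν x)}` (`exists_fst`, `opp`), `ν x = ν₁ x + d σ x` (`smul`, `exists_coef`), `ν₁` skew (isotropy), then `ν₁ = 0`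
(`t3 0 (-ν₁)`).  `θ (x, y, w) = (x, y, w + d σ x)` satisfies `Th θ g`.  For `t ∈ T3`, `t' = g t g⁻¹`, `s = θ⁻¹ t' θ` has
`s (0, y, 0) = (γ y, y, 0)`, `s (0, 0, w) = (β w, α w, w)` with additive `α, β, γ` (`shape`).  Suppose `γ ≠ 0`.  `j = t' i t'⁻¹ ∈ L`
(`H.inv`) satisfies `v - j v ∈ E'' = t' E₀ = {(γ y, y, d σ (γ y))}`, `j = -1` on `E''`.  `j ∉ N3` (else `u - j u ∈ U₃ ⊓ E'' = 0` on `U₃`, so
`U₃ ⊥ E''`, `γ = 0`); `u ↦ u - j u` is injective `U₃ → E''` (`opp`), so onto; `line` for `j` gives `m` with `E'' ⊥ (0, y', m y')`, that is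
`γ y σ m + y = 0`.  So `γ y = γ₀ y`, `α w = -σ γ₀ w` (isometry), `t' ∉ N3` (`ti'`), `line` for `t'` gives `β w σ m' + α w = 0`,
`β` is linear, `s ∈ S3` (`mem_S3_of`).  If `γ = 0` use `t₁ = t3 1 c`: `γ₁ ≠ 0` (else `t₁` fixes `g⁻¹ E₀ ≤ U₃^⊥`, so
`E₀ ≤ g U₃`), and `s = s₁⁻¹ (s₁ s)`, where `s₁ s` has the same `γ₁`.  `diag` for `l ^ 2 ≠ 1` on `(x, 0, 0)`: `d (l⁻¹ - l) σ x` is linear
in `x`, so `d = 0`, `θ = 1`; `weyl`. -/
theorem LA1.odd (H : LA1 p L) (h2 : p ≠ 2) (hg : g ∈ L) (hn : g ∉ N3 K) : Cc1 L g := by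
  obtain ⟨m, hm⟩ := H.line h2 hg hn
  obtain ⟨c, ht⟩ := lae_t3 (σ m)
  have hr := mul_mem (H.le ht) hg
  have nr := lae_nmem ht hn
  refine Cc1.of_mul ht ?_
  have z : ∀ w, ((t3 (σ m) c * g) (0, 0, w)).2.1 = 0 := fun w => eq_zero_of_im fun y => by
    have := om_T3 ht (g (0, 0, w)) (0, y, m * y)
    rw [hm, show t3 (σ m) c (0, y, m * y) = (0, y, 0) by simp [mul_comm]] at this
    rw [LinearEquiv.mul_apply]
    simp only [om, hh, map_zero] at this
    linear_combination this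
  generalize t3 (σ m) c * g = r at hr nr z
  obtain ⟨a, b, n, d, hc⟩ := H.coef hr nr
  obtain ⟨ε, hε⟩ := (isb (K := K)).exists_ne
  obtain ⟨w₁, e1⟩ := H.exists_fst hr nr 1
  obtain ⟨w₂, e2⟩ := H.exists_fst hr nr ε
  have o := (H.om_zero hr (u := (0, 0, w₁)) (v := (0, 0, w₂))).2 (by simp [om, hh])
  simp only [om, hh, z, (hc _).2, e1, e2, map_add, map_mul, map_one, map_zero, σσ] at o
  have sk : n + σ n = 0 := (mul_eq_zero.1 (show (n + σ n) * (σ ε - ε) = 0 by linear_combination o)).resolve_right (sub_ne_zero.2 hε)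
  have ht' : t3 0 (-n) ∈ T3 K := ⟨0, -n, by rw [map_neg]; linear_combination -sk, rfl⟩
  refine Cc1.of_mul ht' (H.odd_core h2 (mul_mem (H.le ht') hr) (lae_nmem ht' nr) (d := d) fun w => ?_)
  simp only [LinearEquiv.mul_apply, t3_apply, z, (hc w).2]
  ext <;> simp only <;> ring

end Cfsg.Lib.U5F
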