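import Cfsg.Agent.Lib.U5F.LA1e

/-! # S5258: characteristic two, and `Q2 / V` -/

set_option autoImplicit false

namespace Cfsg.Lib.U5F

open Subgroup

variable {K : Type*} [Field K] [Bar K] {p : ℕ} [Fact p.Prime] [CharP K p]

/-- The correction in characteristic two. -/
def th2 (ρ c : K) : AA (K × K × K) := AddEquiv.toIntLinearEquiv
  { toFun v := (v.1, v.2.1 + ρ * σ v.1, v.2.2 + c * v.1 + ρ * σ v.2.1)
    invFun v := (v.1, v.2.1 - ρ * σ v.1, v.2.2 - c * v.1 - ρ * σ (v.2.1 - ρ * σ v.1))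
    left_inv v := by ext <;> simp; ring
    right_inv v := by ext <;> simp; ring
    map_add' u v := by ext <;> simp <;> ring }
theorem th2_apply (ρ c : K) (v : K × K × K) :
    th2 ρ c v = (v.1, v.2.1 + ρ * σ v.1, v.2.2 + c * v.1 + ρ * σ v.2.1) := rfl

theorem LA1.even_tr {L : Subgroup (AA (K × K × K))} {g h : AA (K × K × K)} (H : LA1 p L) (h2 : p = 2)
    (hg : g ∈ L) (hn : g ∉ N3 K) (hL : h ∈ L) (hn' : h ∉ N3 K) : ∃ t ∈ T3 K, g⁻¹ * t⁻¹ * h ∈ N3 K := by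
  have x0 : (h (0, 0, 1)).1 ≠ 0 := fun e => one_ne_zero (H.opp hL hn' e)
  obtain ⟨w', e1⟩ := H.exists_fst hg hn (h (0, 0, 1)).1
  have s1 := H.sq h2 h hL (0, 0, 1) (by simp [hh])
  have s2 := H.sq h2 g hg (0, 0, w') (by simp [hh])
  obtain ⟨⟨x, y, w⟩, ev⟩ : ∃ v, v = h (0, 0, 1) := ⟨_, rfl⟩
  obtain ⟨⟨x', y', w''⟩, eu⟩ : ∃ v, v = g (0, 0, w') := ⟨_, rfl⟩
  rw [← ev] at x0 e1 s1
  rw [← eu] at e1 s2
  obtain rfl : x' = x := e1
  have σx : σ x' ≠ 0 := σ_eq_zero.not.2 x0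
  obtain ⟨b, rfl⟩ : ∃ b, y = y' + x' * b := ⟨(y - y') / x', by field_simp; ring⟩
  obtain ⟨c, rfl⟩ : ∃ c, w = w'' + x' * c - y' * σ b := ⟨(w - w'' + y' * σ b) / x', by field_simp; ring⟩
  have ht : t3 b c ∈ T3 K := ⟨b, c, mul_left_cancel₀ (mul_ne_zero x0 σx) (by
    simp only [hh, map_add, map_sub, map_mul, σσ] at s1 s2
    linear_combination s1 - s2), rfl⟩
  refine ⟨_, ht, by_contra fun n => one_ne_zero (H.opp (mul_mem (mul_mem (inv_mem hg) (inv_mem (H.le ht))) hL) n ?_)⟩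
  rw [LinearEquiv.mul_apply, LinearEquiv.mul_apply, ← ev, show (x', y' + x' * b, w'' + x' * c - y' * σ b) = t3 b c (x', y', w'') from rfl,
    lae_inv, eu, lae_inv]

theorem LA1.even_core {L : Subgroup (AA (K × K × K))} {g : AA (K × K × K)} (H : LA1 p L) (h2 : p = 2)
    (hg : g ∈ L) (hn : g ∉ N3 K) {ρ c d : K} (hc : ∀ w, (g (0, 0, w)).2.1 = ρ * σ (g (0, 0, w)).1 ∧
      (g (0, 0, w)).2.2 = c * (g (0, 0, w)).1 + d * σ (g (0, 0, w)).1) : Cc1 L g := by
  have two : (2 : K) = 0 := by subst h2; exact_mod_cast CharP.cast_eq_zero K 2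
  obtain ⟨ε, hε⟩ := (isb (K := K)).exists_ne
  have n : ε + σ ε ≠ 0 := fun e => hε (by linear_combination e - ε * two)
  have sq : ∀ x, (c + σ c + ρ * σ ρ) * (x * σ x) + σ d * x ^ 2 + d * σ x ^ 2 = 0 := fun x => by
    obtain ⟨w, rfl⟩ := H.exists_fst hg hn x
    have := H.sq h2 g hg (0, 0, w) (by simp [hh])
    rw [hh, (hc w).1, (hc w).2] at this
    simp only [map_add, map_mul, σσ] at this
    linear_combination this
  have s1 := sq 1
  have s2 := sq ε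
  have s3 := sq (1 + ε)
  simp only [map_add, map_one] at s1 s3
  have A : c + σ c + ρ * σ ρ = 0 := (mul_eq_zero.1 (show (c + σ c + ρ * σ ρ) * (ε + σ ε) = 0 by
    linear_combination s3 - s1 - s2 - (σ d * ε + d * σ ε) * two)).resolve_right n
  obtain rfl : d = 0 := (mul_eq_zero.1 (show d * (ε + σ ε) ^ 2 = 0 by
    linear_combination s2 - ε ^ 2 * s1 - (ε * σ ε - ε ^ 2) * A + (d * ε ^ 2 + d * ε * σ ε) * two)).resolve_right (pow_ne_zero _ n)
  have pt : ∀ w, g (0, 0, w) = th2 ρ c ((g (0, 0, w)).1, 0, 0) := fun w => by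
    rw [th2_apply]; ext <;> simp [hc w]
  have th : Th (th2 ρ c) g := by
    refine ⟨?_, fun u v => ?_, fun w => by simp [th2_apply], fun w => by rw [pt, lae_inv]; rfl⟩
    · rintro _ ⟨b, e, -, rfl⟩
      refine LinearEquiv.ext fun v => ?_
      simp only [LinearEquiv.mul_apply, th2_apply, t3_apply, map_add, map_mul]
      ext <;> simp only
      · ring
      · linear_combination (ρ * σ v.1 * σ b) * two
    · simp only [om, hh, th2_apply, map_add, map_mul, σσ]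
      linear_combination (u.1 * σ v.1 - v.1 * σ u.1) * A - (ρ * σ ρ * (u.1 * σ v.1 - v.1 * σ u.1)) * two
  have hs : ∀ t ∈ T3 K, (th2 ρ c)⁻¹ * (g * t * g⁻¹) * th2 ρ c ∈ S3 K := fun t₀ h0 => by
    by_cases c1 : t₀ = 1
    · rw [c1, mul_one, mul_inv_cancel, mul_one, inv_mul_cancel]; exact one_mem _
    obtain ⟨t, ht, hk⟩ := H.even_tr h2 hg hn (mul_mem (mul_mem hg (H.le h0)) (inv_mem hg)) fun e => hn (H.ti' hg h0 c1 e)
    obtain ⟨i1, i2, i3, i4⟩ := H.shape hg th h0 rfl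
    generalize g * t₀ * g⁻¹ = h at *
    have k : ∀ w, ∃ x, ((th2 ρ c)⁻¹ * h * th2 ρ c) (0, 0, w) = t (x, 0, 0) := fun w => by
      obtain ⟨e1, e2⟩ := N3_U hk w
      obtain ⟨w', e⟩ : ∃ w', (g⁻¹ * t⁻¹ * h) (0, 0, w) = (0, 0, w') := ⟨_, Prod.ext e1 (Prod.ext e2 rfl)⟩
      refine ⟨(g (0, 0, w')).1, ?_⟩
      rw [LinearEquiv.mul_apply, LinearEquiv.mul_apply, th.fix, show h = t * g * (g⁻¹ * t⁻¹ * h) by group, LinearEquiv.mul_apply,
        e, LinearEquiv.mul_apply, pt, ← LinearEquiv.mul_apply t, ← th.comm t ht, LinearEquiv.mul_apply, lae_inv, ← pt]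
    obtain ⟨b, e, -, rfl⟩ := ht
    have e0 : e ≠ 0 := by
      rintro rfl
      obtain ⟨x, hx⟩ := k 1
      have := i4 1
      rw [hx] at this
      simp at this
    refine mem_S3_of i1 i2 i3 (α := b / e) (β := e⁻¹) fun w => ?_
    obtain ⟨x, hx⟩ := k w
    have := i4 w
    rw [hx] at this ⊢
    rw [← this]
    ext <;> simp <;> field_simp
  have ε0 : ε ≠ 0 := by rintro rfl; simp at hε
  obtain ⟨m, m1, m2⟩ := H.diag hg th hs ε0
  have σε : σ ε ≠ 0 := σ_eq_zero.not.2 ε0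
  have f : ∀ y, (m (0, y, 0)).2.2 = ρ * (ε / σ ε - ε) * σ y := fun y => by
    have e1 := m1 (0, y, 0)
    have e2 := m1 (0, 0, ρ * σ y)
    rw [show ((0, y, 0) : K × K × K) = th2 ρ c (0, y, 0) - th2 ρ c (0, 0, ρ * σ y) by simp [th2_apply], map_sub, e1, e2]
    simp [th2_apply]; ring
  have f1 := f ε
  rw [show ((0, ε, 0) : K × K × K) = ε • (0, 1, 0) by simp, m2, Prod.smul_snd, Prod.smul_snd, f, map_one] at f1
  obtain rfl : ρ = 0 := by
    by_contra r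
    have : ρ * ε * (1 - σ ε) * (ε - σ ε) = 0 := by
      rw [smul_eq_mul] at f1
      linear_combination σ ε * f1 + (ρ * ε * (σ ε - ε)) * mul_inv_cancel₀ σε
    simp only [mul_eq_zero, r, ε0, false_or, sub_eq_zero] at this
    rcases this with e | e
    · exact hε (by rw [← σσ ε, ← e, map_one, map_one])
    · exact hε e.symm
  refine H.cc1_of hg th hs ⟨0, c, by simpa using A, LinearEquiv.ext fun v => ?_⟩
  simp [th2_apply, mul_comm]

/-- `g U₃ = {(x, μ x, ν x)}` (`exists_fst`, `opp`) with `k`-linear `μ, ν` (`smul`), `μ x = μ₁ x + ρ σ x` (`exists_coef`); replace `g` by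
`t3 μ₁ c * g`: `μ₁ = 0`.  `ν x = c₁ x + d σ x`; `H.sq`: `(c₁ + σ c₁ + ρ σ ρ) x σ x + (σ d x ^ 2 + d σ x ^ 2) = 0` for all `x`; the second term
is additive in `x`, so `c₁ + σ c₁ + ρ σ ρ = 0`, and `d = 0` (squares fill `K`).  `θ (x, y, w) = (x, y + ρ σ x, w + c₁ x + ρ σ y)`
satisfies `Th θ g`.  (*) For `h ∈ L \ N3` there is `t ∈ T3` with `g⁻¹ t⁻¹ h ∈ N3`: `v = h (0, 0, 1) = (x, y, w)` and
`u' = g (0, 0, w') = (x, y', w'')` are singular, `x ≠ 0`, `v = t3 b c u'` for `b = (y - y') / x`, `c = (w - w'' + y' σ b) / x`; `opp`.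
For `1 ≠ t₀ ∈ T3`, `h = g t₀ g⁻¹ ∉ N3` (`ti'`), so `h U₃ ≤ t θ U₃' = θ t U₃'` (`N3_U`), `s = θ⁻¹ h θ` has
`s (0, 0, w) = (x, x b, x c)` with `x c = w` (`shape`), `mem_S3_of`.  `diag` on `(0, y, 0)`: `ρ (l + l / σ l) σ y` is linear in `y`; with
`l ≠ 0, 1`: `ρ = 0`, `θ = t3 0 c₁ ∈ T3`; `weyl` conjugated by `θ`. -/
theorem LA1.even {L : Subgroup (AA (K × K × K))} {g : AA (K × K × K)} (H : LA1 p L) (h2 : p = 2)
    (hg : g ∈ L) (hn : g ∉ N3 K) : Cc1 L g := by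
  obtain ⟨a, ρ, c, d, hc⟩ := H.coef hg hn
  obtain ⟨e, ht⟩ := lae_t3 (-a)
  refine Cc1.of_mul ht (H.even_core h2 (mul_mem (H.le ht) hg) (lae_nmem ht hn) (ρ := ρ) (c := c + e + a * σ a)
    (d := d + ρ * σ a) fun w => ?_)
  simp only [LinearEquiv.mul_apply, t3_apply, hc w, map_neg]
  constructor <;> ring

namespace LA2
variable {L : Subgroup (AA (K × K))} {g : AA (K × K)} (H : LA2 p L)
include H

/-- `g` preserves `U₂ = {(0, d)}`, so it normalizes the `p`-group of the elements of `L` trivial on `U₂` and `K² / U₂`, which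
is `T2` (`Transfer.eq_of_not_dvd_relIndex_of_le`). -/
theorem fixU (hg : g ∈ L) (h : ∀ d, (g (0, d)).1 = 0) : g ∈ N2 K := by
  let C : Subgroup (AA (K × K)) :=
    { carrier := {c | c ∈ L ∧ (∀ d, c (0, d) = (0, d)) ∧ ∀ v, (c v).1 = v.1}
      one_mem' := ⟨one_mem _, fun _ => rfl, fun _ => rfl⟩
      mul_mem' := fun {a b} ha hb => ⟨mul_mem ha.1 hb.1, fun d => by rw [LinearEquiv.mul_apply, hb.2.1, ha.2.1],
        fun v => by rw [LinearEquiv.mul_apply, ha.2.2, hb.2.2]⟩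
      inv_mem' := fun {a} ha => ⟨inv_mem ha.1, fun d => by rw [← ha.2.1 d]; exact (a.symm_apply_apply _).trans (ha.2.1 d).symm,
        fun v => by rw [← ha.2.2 (a⁻¹ v)]; exact congrArg Prod.fst (a.apply_symm_apply v)⟩ }
  have pC : IsPGroup p C := fun c => ⟨1, Subtype.ext (LinearEquiv.ext fun v => by
    have k : ∀ n : ℕ, (c.1 ^ n) v = v + (0, n * ((c.1 v).2 - v.2)) := fun n => by
      induction n with
      | zero => simp
      | succ n ih =>
        rw [pow_succ', LinearEquiv.mul_apply, ih, map_add, c.2.2.1]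
        ext
        · simpa using c.2.2.2 v
        · simp; ring
    change (c.1 ^ p ^ 1) v = v
    rw [k]; simp)⟩
  have e : T2 K = C := Transfer.eq_of_not_dvd_relIndex_of_le H.syl pC (fun _ hc => hc.1) (by
    rintro _ ⟨a, rfl⟩
    exact ⟨H.le ⟨a, rfl⟩, fun d => by simp, fun _ => rfl⟩)
  have g0 : ∀ d, g (0, d) = (0, (g (0, d)).2) := fun d => Prod.ext (h d) rfl
  have su : Function.Surjective fun d => (g (0, d)).2 := Finite.surjective_of_injective fun a b e =>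
    (Prod.mk.inj (g.injective ((g0 a).trans ((congrArg _ e).trans (g0 b).symm)))).2
  rw [N2, e]
  refine Transfer.mem_normalizer_of_conj_le (Transfer.conj_le_iff.2 fun c hc => ⟨mul_mem (mul_mem hg hc.1) (inv_mem hg), fun d => ?_,
    fun v => ?_⟩)
  · obtain ⟨d, rfl⟩ := su d
    rw [← g0, LinearEquiv.mul_apply, LinearEquiv.mul_apply, show g⁻¹ (g (0, d)) = (0, d) from g.symm_apply_apply _, hc.2.1]
  · obtain ⟨v, rfl⟩ := g.surjective v
    rw [LinearEquiv.mul_apply, LinearEquiv.mul_apply, show g⁻¹ (g v) = v from g.symm_apply_apply _,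
      show c v = v + (0, (c v).2 - v.2) from Prod.ext (by simpa using hc.2.2 v) (by simp), map_add, Prod.fst_add, h, add_zero]

/-- `g (0, 1) = (b, d)` has `b ≠ 0` (`H.line`, `fixU`); `t = t2 (-d / b)`. -/
theorem exists_t (hg : g ∈ L) (hn : g ∉ N2 K) : ∃ t ∈ T2 K, ∀ d, (t (g (0, d))).2 = 0 := by
  have b0 : (g (0, 1)).1 ≠ 0 := fun e => hn (H.fixU hg fun d => by
    obtain ⟨s, hs⟩ := H.line g hg d
    rw [hs, Prod.smul_fst, e, smul_zero])
  refine ⟨_, ⟨-(g (0, 1)).2 / (g (0, 1)).1, rfl⟩, fun d => ?_⟩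
  obtain ⟨s, hs⟩ := H.line g hg d
  rw [hs, t2_apply]
  simp only [Prod.smul_fst, Prod.smul_snd, smul_eq_mul]
  field_simp; ring

/-- Replace `g` by `t g`.  `s = g (t2 a) g⁻¹` fixes `U₂' = {(b, 0)} = g U₂` pointwise and acts trivially on the quotient;
`s (0, d) = r • s (0, 1)` (`H.line`) gives `s (0, d) = (β d, d)`; `a ↦ β` is injective, so onto.  With `n β (b, d) = (b + β d, d)`:
`n (-c⁻¹) * t2 c * n (-c⁻¹)` is `(b, d) ↦ (-d / c, c b)`. -/
theorem weyl (hg : g ∈ L) (hn : g ∉ N2 K) {c : K} (hc : c ≠ 0) :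
    ∃ w ∈ L, ∀ v, w v = (-v.2 / c, c * v.1) := by
  obtain ⟨t, ht, h⟩ := H.exists_t hg hn
  have hr := mul_mem (H.le ht) hg
  change ∀ d, ((t * g) (0, d)).2 = 0 at h
  generalize t * g = r at *
  have g0 : ∀ d, r (0, d) = ((r (0, d)).1, 0) := fun d => Prod.ext rfl (h d)
  have su : Function.Surjective fun d => (r (0, d)).1 := Finite.surjective_of_injective fun a b e =>
    (Prod.mk.inj (r.injective ((g0 a).trans ((congrArg (·, 0) e).trans (g0 b).symm)))).2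
  have i1 : ∀ v, r⁻¹ (r v) = v := r.symm_apply_apply
  have ap : ∀ a v, (r * t2 a * r⁻¹) (r v) = r v + r (0, a * v.1) := fun a v => by
    rw [LinearEquiv.mul_apply, LinearEquiv.mul_apply, i1, ← map_add]; congr 1; ext <;> simp
  obtain ⟨u, hu⟩ := r.surjective (0, 1)
  have u0 : u.1 ≠ 0 := fun e => by
    have := h u.2
    rw [show ((0, u.2) : K × K) = u from Prod.ext e.symm rfl, hu] at this
    exact one_ne_zero this
  have k : ∀ β : K, ∃ n ∈ L, ∀ v, n v = (v.1 + β * v.2, v.2) := fun β => by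
    obtain ⟨e, he⟩ := su β
    have hs := mul_mem (mul_mem hr (H.le ⟨e / u.1, rfl⟩)) (inv_mem hr)
    refine ⟨_, hs, fun v => ?_⟩
    obtain ⟨s, e1⟩ := H.line _ hs v.2
    have e2 := ap (e / u.1) u
    rw [hu, div_mul_cancel₀ _ u0, g0, show (r (0, e)).1 = β from he] at e2
    obtain ⟨b, hb⟩ := su v.1
    have e3 := ap (e / u.1) (0, b)
    rw [mul_zero, g0, show (r (0, b)).1 = v.1 from hb, show r (0, 0) = 0 from map_zero r, add_zero] at e3
    obtain ⟨u', hu'⟩ := r.surjective (0, v.2)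
    have e4 := congrArg Prod.snd (ap (e / u.1) u')
    rw [hu', e1, e2, Prod.snd_add, h] at e4
    rw [show v = (v.1, 0) + (0, v.2) by simp, map_add, e1, e2, e3]
    simp at e4
    simp [e4, mul_comm]
  obtain ⟨n, hn, e⟩ := k (-c⁻¹)
  refine ⟨n * t2 c * n, mul_mem (mul_mem hn (H.le ⟨c, rfl⟩)) hn, fun v => ?_⟩
  simp only [LinearEquiv.mul_apply, e, t2_apply]
  ext <;> simp only <;> field_simp <;> ring

end LA2

end Cfsg.Lib.U5F
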