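import Cfsg.Agent.Lib.U5F.LA1a

/-! # S5258: the opposite root group -/

set_option autoImplicit false

namespace Cfsg.Lib.U5F

open Subgroup

variable {K : Type*} [Field K] [Bar K] {p : ℕ} [Fact p.Prime] [CharP K p]
  {L : Subgroup (AA (K × K × K))} {g θ s : AA (K × K × K)}

/-- A `k`-linear additive map `K → K` (solve from the values at `1` and `ε ∉ k`). -/
theorem exists_coef {ν : K → K} (h1 : ∀ x y, ν (x + y) = ν x + ν y)
    (h2 : ∀ s x, σ s = s → ν (s * x) = s * ν x) : ∃ a b, ∀ x, ν x = a * x + b * σ x := by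
  obtain ⟨e, he⟩ := isb.exists_ne (F := K)
  have d : e - σ e ≠ 0 := sub_ne_zero.2 he.symm
  have d' : σ e - e ≠ 0 := sub_ne_zero.2 he
  refine ⟨(ν e - σ e * ν 1) / (e - σ e), (e * ν 1 - ν e) / (e - σ e), fun x => ?_⟩
  have := h1 ((e * σ x - σ e * x) / (e - σ e) * 1) ((x - σ x) / (e - σ e) * e)
  rw [h2 _ _ (by simp; field_simp; ring), h2 _ _ (by simp; field_simp; ring),
    show _ + _ = x by field_simp; ring] at this
  rw [this]
  field_simp; ring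

/-- `s (0, y, 0) = (γ y, y, 0)`; `om (s (0, 0, w)) (s (0, y, 0)) = 0` gives `γ y = -σ α y`, `om (s (0, 0, w)) (s (0, 0, w')) = 0`
gives `β + σ β + α σ α = 0`. -/
theorem mem_S3_of (hi : ∀ u v, om (s u) (s v) = om u v) (h1 : ∀ x, s (x, 0, 0) = (x, 0, 0))
    (h2 : ∀ y, (s (0, y, 0)).2 = (y, 0)) {α β : K} (h3 : ∀ w, s (0, 0, w) = (β * w, α * w, w)) :
    s ∈ S3 K := by
  have k1 : ∀ y, s (0, y, 0) = (-(σ α * y), y, 0) := fun y => Prod.ext (eq_neg_of_add_eq_zero_left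
    (eq_zero_of_im fun w => by
      have := hi (0, 0, w) (0, y, 0)
      simp [h3, om, hh, h2] at this ⊢
      linear_combination -this)) (h2 y)
  obtain ⟨e, he⟩ := isb.exists_ne (F := K)
  refine ⟨α, β, mul_left_cancel₀ (sub_ne_zero.2 he) ?_, LinearEquiv.ext fun v => ?_⟩
  · have := hi (0, 0, e) (0, 0, 1)
    rw [h3, h3] at this
    simp [om, hh] at this
    linear_combination -this
  · rw [show v = (v.1, 0, 0) + (0, v.2.1, 0) + (0, 0, v.2.2) by simp, map_add, map_add, h1, k1, h3]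
    ext <;> simp
    ring

/-- `θ` is an isometry centralizing `T3` and `U₃`, and `g U₃ = θ U₃'`. -/
structure Th (θ g : AA (K × K × K)) : Prop where
  comm : ∀ t ∈ T3 K, θ * t = t * θ
  iso : ∀ u v, om (θ u) (θ v) = om u v
  fix : ∀ w : K, θ (0, 0, w) = (0, 0, w)
  pt : ∀ w : K, (θ⁻¹ (g (0, 0, w))).2 = 0

/-- `r = θ⁻¹ g` maps `U₃` onto `U₃'` (finite, injective), preserves orthogonality, so maps `U₃^⊥` onto `U₃'^⊥ = {(x, y, 0)}`; `t` acts
trivially on `U₃`, `U₃^⊥ / U₃`, `K³ / U₃^⊥`. -/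
theorem LA1.shape (H : LA1 p L) (hg : g ∈ L) (h : Th θ g) {t : AA (K × K × K)} (ht : t ∈ T3 K)
    (hs : s = θ⁻¹ * (g * t * g⁻¹) * θ) : (∀ u v, om (s u) (s v) = om u v) ∧ (∀ x, s (x, 0, 0) = (x, 0, 0)) ∧
      (∀ y, (s (0, y, 0)).2 = (y, 0)) ∧ ∀ w, (s (0, 0, w)).2.2 = w := by
  have i : ∀ u v, om (θ⁻¹ u) (θ⁻¹ v) = om u v := fun u v => by simpa using (h.iso (θ⁻¹ u) (θ⁻¹ v)).symm
  have z : ∀ u v, om ((θ⁻¹ * g) u) ((θ⁻¹ * g) v) = 0 ↔ om u v = 0 := fun u v => by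
    rw [← H.om_zero hg (u := u), ← i (g u)]; rfl
  have pt : ∀ w, ((θ⁻¹ * g) (0, 0, w)).2 = 0 := h.pt
  have e : ∀ v, s ((θ⁻¹ * g) v) - (θ⁻¹ * g) v = (θ⁻¹ * g) (t v - v) := fun v => by simp [hs]
  refine ⟨fun u v => by rw [hs, LinearEquiv.mul_apply, LinearEquiv.mul_apply, LinearEquiv.mul_apply _ θ,
    LinearEquiv.mul_apply θ⁻¹, i, H.iso_conj hg (om_T3 ht), h.iso], ?_⟩
  generalize θ⁻¹ * g = r at z pt e
  obtain ⟨t1, t2, t3⟩ := T3_le_Ut ht
  have k : ∀ x, ∃ w, r (0, 0, w) = (x, 0, 0) := fun x => by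
    obtain ⟨w, rfl⟩ := Finite.surjective_of_injective (f := fun w => (r (0, 0, w)).1) (fun a b e => by
      simpa using r.injective (a₁ := (0, 0, a)) (a₂ := (0, 0, b)) (Prod.ext e ((pt a).trans (pt b).symm))) x
    exact ⟨w, Prod.ext rfl (pt w)⟩
  refine ⟨fun x => ?_, fun y => ?_, fun w => ?_⟩
  · obtain ⟨w, hw⟩ := k x
    rw [← sub_eq_zero, ← hw, e, t3, sub_self, map_zero]
  · obtain ⟨v, hv⟩ := r.surjective (0, y, 0)
    have v1 : v.1 = 0 := fst_of_om fun w => (z _ _).1 (by simp [hv, om, hh, pt])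
    have := congrArg Prod.snd (e v)
    rwa [show t v - v = (0, 0, (t v - v).2.2) from Prod.ext (sub_eq_zero.2 (t1 v))
      (Prod.ext (sub_eq_zero.2 (t2 v v1)) rfl), pt, hv, Prod.snd_sub, sub_eq_zero] at this
  · obtain ⟨v, hv⟩ := r.surjective (0, 0, w)
    refine sub_eq_zero.1 (eq_zero_of_im fun x => ?_)
    obtain ⟨a, ha⟩ := k x
    have := (z (t v - v) (0, 0, a)).2 (om_of_fst (sub_eq_zero.2 (t1 v)) rfl rfl)
    rw [← e, hv, ha] at this
    simpa [om, hh, sub_eq_zero] using this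

/-- `t ↦ θ⁻¹ g t g⁻¹ θ` is an injection `T3 → S3` of finite sets of the same size (both are in bijection with the pairs
`(b, c)`), so `θ S3 θ⁻¹ ≤ L`, and `θ T3 θ⁻¹ = T3 ≤ L`.  For `c ≠ 0` take `b` with `c + σ c + b σ b = 0` (`isb.exists_norm_eq`):
`t3 (b σ c / c) c * s3 (-b / c) (σ c)⁻¹ * t3 b c` is `v ↦ (v.2.2 / σ c, -(σ c / c) v.2.1, c v.1)`. -/
theorem LA1.weyl (H : LA1 p L) (hg : g ∈ L) (h : Th θ g)
    (hs : ∀ t ∈ T3 K, θ⁻¹ * (g * t * g⁻¹) * θ ∈ S3 K) {c : K} (hc : c ≠ 0) :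
    ∃ w ∈ L, ∀ v, w (θ v) = θ (v.2.2 / σ c, -(σ c / c) * v.2.1, c * v.1) := by
  let τ : AA (K × K × K) := AddEquiv.toIntLinearEquiv
    ⟨⟨fun v => (v.2.2, v.2.1, v.1), fun v => (v.2.2, v.2.1, v.1), fun _ => rfl, fun _ => rfl⟩, fun _ _ => rfl⟩
  have c1 : ∀ x : AA (K × K × K), Nat.card ((T3 K).map (MulAut.conj x).toMonoidHom) = Nat.card (T3 K) := fun x =>
    card_map_of_injective (MulAut.conj x).injective
  have e := eq_of_le_of_card_ge (H := (T3 K).map (MulAut.conj (θ⁻¹ * g)).toMonoidHom) (K := S3 K) (by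
    rintro _ ⟨t, ht, rfl⟩
    simpa [mul_assoc] using hs t ht) ((card_le_of_le (K := (T3 K).map (MulAut.conj τ).toMonoidHom) (by
      rintro _ ⟨b, c, e, rfl⟩
      exact ⟨_, ⟨b, c, e, rfl⟩, LinearEquiv.ext fun v => by
        change τ (t3 b c (τ v)) = _
        ext <;> simp [τ] <;> ring⟩)).trans_eq ((c1 _).trans (c1 _).symm))
  obtain ⟨b, hb⟩ := isb.exists_norm_eq (μ := -(c + σ c)) (by simp [add_comm])
  have hc' : σ c ≠ 0 := mt σ_eq_zero.1 hc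
  have m1 : t3 (b * σ c / c) c ∈ T3 K := ⟨_, _, by simp; field_simp; linear_combination hb, rfl⟩
  have m2 : t3 b c ∈ T3 K := ⟨_, _, by linear_combination hb, rfl⟩
  obtain ⟨t, ht, e⟩ := e.ge (show s3 (-b / c) (σ c)⁻¹ ∈ S3 K from ⟨_, _, by
    simp; field_simp; linear_combination hb, rfl⟩)
  refine ⟨_, mul_mem (mul_mem (H.le m1) (mul_mem (mul_mem hg (H.le ht)) (inv_mem hg))) (H.le m2), fun v => ?_⟩
  rw [show g * t * g⁻¹ = θ * s3 (-b / c) (σ c)⁻¹ * θ⁻¹ by rw [← e]; simp [mul_assoc], ← LinearEquiv.mul_apply,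
    mul_assoc, ← h.comm _ m2, ← mul_assoc, mul_assoc _ _ θ, inv_mul_cancel_right, ← mul_assoc, ← h.comm _ m1,
    mul_assoc, mul_assoc, LinearEquiv.mul_apply]
  congr 1
  ext <;> simp <;> field_simp
  · linear_combination v.1 * hb
  · linear_combination (v.2.1 + v.1 * b) * hb
  · linear_combination (v.2.2 + v.1 * c - v.2.1 * σ b) * hb

/-- The product of the elements of `weyl` for `c = l` and `c = 1` is `θ m θ⁻¹`, `m v = (v.1 / σ l, σ l / l * v.2.1, l * v.2.2)`; it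
acts on `U₃` as `l`, so it is `K`-linear (`fixU`, `H.lin`). -/
theorem LA1.diag (H : LA1 p L) (hg : g ∈ L) (h : Th θ g)
    (hs : ∀ t ∈ T3 K, θ⁻¹ * (g * t * g⁻¹) * θ ∈ S3 K) {l : K} (hl : l ≠ 0) :
    ∃ m : AA (K × K × K), (∀ v, m (θ v) = θ (v.1 / σ l, σ l / l * v.2.1, l * v.2.2)) ∧
      ∀ (r : K) v, m (r • v) = r • m v := by
  obtain ⟨a, ha, e⟩ := H.weyl hg h hs hl
  obtain ⟨b, hb, e'⟩ := H.weyl hg h hs one_ne_zero
  have k : ∀ v, (a * b) (θ v) = θ (v.1 / σ l, σ l / l * v.2.1, l * v.2.2) := fun v => by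
    rw [LinearEquiv.mul_apply, e', e]; simp
  have k' : ∀ w, (a * b) (0, 0, w) = (0, 0, l * w) := fun w => by
    rw [← h.fix, k, ← h.fix (l * w)]; simp
  exact ⟨a * b, k, H.lin _ (mul_mem ha hb) (H.fixU (mul_mem ha hb) fun w => by rw [k']; exact ⟨rfl, rfl⟩)
    fun s w => by rw [k', k']; simp [mul_left_comm]⟩

end Cfsg.Lib.U5F
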