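import Cfsg.Agent.Lib.U5F.LA1d

/-! # S5258: common steps of `LA1b` and `LA1c` -/

set_option autoImplicit false

namespace Cfsg.Lib.U5F

open Subgroup

variable {K : Type*} [Field K] [Bar K] {p : ℕ} [Fact p.Prime] [CharP K p]
  {L : Subgroup (AA (K × K × K))} {g t θ : AA (K × K × K)}

theorem lae_dec {ε : K} (hε : σ ε ≠ ε) (z : K) : ∃ r s : K, σ r = r ∧ σ s = s ∧ z = r + s * ε := by
  have n : ε - σ ε ≠ 0 := sub_ne_zero.2 hε.symm
  have n' : σ ε - ε ≠ 0 := sub_ne_zero.2 hε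
  refine ⟨z - (z - σ z) / (ε - σ ε) * ε, (z - σ z) / (ε - σ ε), ?_, ?_, by ring⟩ <;>
    simp only [map_sub, map_mul, map_div₀, σσ] <;> field_simp <;> ring

theorem lae_skew (u v : K × K × K) : σ (om u v) = -om u v := by rw [om, map_sub, σ_hh, σ_hh, neg_sub]

theorem lae_inv (g : AA (K × K × K)) (v : K × K × K) : g⁻¹ (g v) = v := g.symm_apply_apply v
theorem lae_inv' (g : AA (K × K × K)) (v : K × K × K) : g (g⁻¹ v) = v := g.apply_symm_apply v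

theorem lae_t3 (b : K) : ∃ c, t3 b c ∈ T3 K := by
  obtain ⟨c, hc⟩ := isb.exists_trace_eq (s := -(b * σ b)) (by simp [mul_comm])
  exact ⟨c, b, c, by rw [hc, neg_add_cancel], rfl⟩

theorem Cc1.of_mul (ht : t ∈ T3 K) (h : Cc1 L (t * g)) : Cc1 L g := by
  obtain ⟨⟨s, hs, e⟩, h2⟩ := h
  exact ⟨⟨s * t, mul_mem hs ht, e⟩, h2⟩

theorem lae_nmem (ht : t ∈ T3 K) (hn : g ∉ N3 K) : t * g ∉ N3 K :=
  fun e => hn ((mul_mem_cancel_left (le_normalizer ht)).1 e)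

/-- `g U₃ = {(x, a x + b σ x, c x + d σ x)}`. -/
theorem LA1.coef (H : LA1 p L) (hg : g ∈ L) (hn : g ∉ N3 K) : ∃ a b c d : K, ∀ w,
    (g (0, 0, w)).2.1 = a * (g (0, 0, w)).1 + b * σ (g (0, 0, w)).1 ∧
      (g (0, 0, w)).2.2 = c * (g (0, 0, w)).1 + d * σ (g (0, 0, w)).1 := by
  choose W hW using H.exists_fst hg hn
  have u : ∀ w, W (g (0, 0, w)).1 = w := fun w => sub_eq_zero.1 (H.opp hg hn (by
    rw [show ((0, 0, W (g (0, 0, w)).1 - w) : K × K × K) = (0, 0, W (g (0, 0, w)).1) - (0, 0, w) by simp, map_sub, Prod.fst_sub,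
      hW, sub_self]))
  have a : ∀ x y, g (0, 0, W (x + y)) = g (0, 0, W x) + g (0, 0, W y) := fun x y => by
    have e : g (0, 0, W x + W y) = g (0, 0, W x) + g (0, 0, W y) := by rw [← map_add]; simp
    have := u (W x + W y)
    rw [e, Prod.fst_add, hW, hW] at this
    rw [this, e]
  have m : ∀ s x, σ s = s → g (0, 0, W (s * x)) = s • g (0, 0, W x) := fun s x hs => by
    obtain ⟨s', -, e⟩ := H.smul (inv_mem hg) hs (g (0, 0, W x))
    have e' : g (0, 0, s' * W x) = s • g (0, 0, W x) := by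
      rw [← lae_inv' g (s • _), e, lae_inv]; simp
    have := u (s' * W x)
    rw [e', Prod.smul_fst, hW, smul_eq_mul] at this
    rw [this, e']
  obtain ⟨a1, b1, h1⟩ := exists_coef (ν := fun x => (g (0, 0, W x)).2.1) (fun x y => by rw [a]; rfl) fun s x hs => by
    rw [m s x hs]; rfl
  obtain ⟨a2, b2, h2⟩ := exists_coef (ν := fun x => (g (0, 0, W x)).2.2) (fun x y => by rw [a]; rfl) fun s x hs => by
    rw [m s x hs]; rfl
  exact ⟨a1, b1, a2, b2, fun w => ⟨by rw [← h1, u], by rw [← h2, u]⟩⟩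

theorem LA1.cc1_of (H : LA1 p L) (hg : g ∈ L) (h : Th θ g) (hs : ∀ t ∈ T3 K, θ⁻¹ * (g * t * g⁻¹) * θ ∈ S3 K)
    (hθ : θ ∈ T3 K) : Cc1 L g := by
  refine ⟨⟨θ⁻¹, inv_mem hθ, h.pt⟩, fun c hc => ?_⟩
  obtain ⟨w, hw, e⟩ := H.weyl hg h hs hc
  exact ⟨θ⁻¹ * w * θ, mul_mem (mul_mem (inv_mem (H.le hθ)) hw) (H.le hθ), fun v => by
    rw [LinearEquiv.mul_apply, LinearEquiv.mul_apply, e, lae_inv]⟩

end Cfsg.Lib.U5F
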