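import Cfsg.Agent.Lib.Unitary.Field

/-!
# S5258: the Sylow subgroup of `SU₅(q)` in coordinates.  See `docs/U5F.md`.

`x = ⟨a, b, c, d, f, z⟩` is the matrix with rows `(1, a, d, f, z)`, `(0, 1, b, c, -σf - σa c - b σd)`,
`(0, 0, 1, -σb, σa σb - σd)`, `(0, 0, 0, 1, -σa)`, `(0, 0, 0, 0, 1)`, unitary for the antidiagonal form.
-/

set_option autoImplicit false
set_option linter.unusedSectionVars false
set_option linter.unnecessarySeqFocus false
set_option linter.unusedSimpArgs false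

namespace Cfsg.Lib.U5F

open Subgroup
open scoped commutatorElement

/-- A field with `q²` elements and its involution. -/
class Bar (K : Type*) [Field K] where
  q : ℕ
  bar : K →+* K
  is : Unitary.IsBar q bar

/-- The involution. -/
scoped notation "σ" => Bar.bar

variable {K : Type*} [Field K] [Bar K]

/-- The order of the fixed field. -/
abbrev qq (K : Type*) [Field K] [Bar K] : ℕ := Bar.q K

theorem isb : Unitary.IsBar (qq K) (σ : K →+* K) := Bar.is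
@[simp] theorem σσ (x : K) : σ (σ x) = x := isb.invol x
instance finiteK : Finite K := isb.finite
theorem σ_inj {x y : K} : σ x = σ y ↔ x = y := (RingHom.injective _).eq_iff
theorem σ_eq_zero {x : K} : σ x = 0 ↔ x = 0 := map_eq_zero _
theorem σ_ringAut (τ : K ≃+* K) (x : K) : σ (τ x) = τ (σ x) := by rw [isb.eq, isb.eq, map_pow]

variable (K) in
/-- Coordinates of the Sylow subgroup. -/
@[ext] structure U where
  a : K
  b : K
  c : K
  d : K
  f : K
  z : K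
  hc : c + σ c + b * σ b = 0
  hz : z + σ z + a * σ f + f * σ a + d * σ d = 0

namespace U

instance instMul : Mul (U K) := ⟨fun x y =>
  ⟨x.a + y.a, x.b + y.b, x.c + y.c - x.b * σ y.b, x.d + y.d + x.a * y.b,
    x.f + y.f + x.a * y.c - x.d * σ y.b,
    x.z + y.z - x.a * (σ y.f + σ y.a * y.c + y.b * σ y.d) + x.d * (σ y.a * σ y.b - σ y.d) - x.f * σ y.a,
    by simp only [map_add, map_sub, map_mul, σσ]; linear_combination x.hc + y.hc,
    by simp only [map_add, map_sub, map_mul, σσ]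
       linear_combination x.hz + y.hz + x.a * σ x.a * y.hc⟩⟩
instance instOne : One (U K) := ⟨⟨0, 0, 0, 0, 0, 0, by simp, by simp⟩⟩
instance instInv : Inv (U K) := ⟨fun x =>
  ⟨-x.a, -x.b, σ x.c, x.a * x.b - x.d, -x.f - x.a * σ x.c - σ x.b * x.d, σ x.z,
    by simp only [map_neg, σσ]; linear_combination x.hc,
    by simp only [map_neg, map_sub, map_mul, σσ]
       linear_combination x.hz + x.a * σ x.a * x.hc⟩⟩

variable (x y : U K)
@[simp] theorem mul_a : (x * y).a = x.a + y.a := rfl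
@[simp] theorem mul_b : (x * y).b = x.b + y.b := rfl
@[simp] theorem mul_c : (x * y).c = x.c + y.c - x.b * σ y.b := rfl
@[simp] theorem mul_d : (x * y).d = x.d + y.d + x.a * y.b := rfl
@[simp] theorem mul_f : (x * y).f = x.f + y.f + x.a * y.c - x.d * σ y.b := rfl
@[simp] theorem mul_z : (x * y).z = x.z + y.z - x.a * (σ y.f + σ y.a * y.c + y.b * σ y.d) +
    x.d * (σ y.a * σ y.b - σ y.d) - x.f * σ y.a := rfl
@[simp] theorem one_a : (1 : U K).a = 0 := rfl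
@[simp] theorem one_b : (1 : U K).b = 0 := rfl
@[simp] theorem one_c : (1 : U K).c = 0 := rfl
@[simp] theorem one_d : (1 : U K).d = 0 := rfl
@[simp] theorem one_f : (1 : U K).f = 0 := rfl
@[simp] theorem one_z : (1 : U K).z = 0 := rfl
@[simp] theorem inv_a : x⁻¹.a = -x.a := rfl
@[simp] theorem inv_b : x⁻¹.b = -x.b := rfl
@[simp] theorem inv_c : x⁻¹.c = σ x.c := rfl
@[simp] theorem inv_d : x⁻¹.d = x.a * x.b - x.d := rfl
@[simp] theorem inv_f : x⁻¹.f = -x.f - x.a * σ x.c - σ x.b * x.d := rfl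
@[simp] theorem inv_z : x⁻¹.z = σ x.z := rfl

theorem σc : σ x.c = -x.c - x.b * σ x.b := by linear_combination x.hc
theorem σz : σ x.z = -x.z - x.a * σ x.f - x.f * σ x.a - x.d * σ x.d := by linear_combination x.hz

instance instGroup : Group (U K) := Group.ofLeftAxioms
  (fun x y z => by ext <;> simp [σc] <;> ring) (fun x => by ext <;> simp)
  (fun x => by ext <;> simp [σc, σz] <;> ring)

instance instFinite : Finite (U K) :=
  .of_injective (fun x : U K => (x.a, x.b, x.c, x.d, x.f, x.z)) fun x y h => by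
    simp only [Prod.mk.injEq] at h; ext <;> tauto

theorem cm_a : ⁅x, y⁆.a = 0 := by simp [commutatorElement_def]
theorem cm_b : ⁅x, y⁆.b = 0 := by simp [commutatorElement_def]
theorem cm_c : ⁅x, y⁆.c = y.b * σ x.b - x.b * σ y.b := by simp [commutatorElement_def, σc]; ring
theorem cm_d : ⁅x, y⁆.d = x.a * y.b - y.a * x.b := by simp [commutatorElement_def]; ring
theorem cm_f : ⁅x, y⁆.f = x.a * y.c - x.d * σ y.b - y.a * x.c + y.d * σ x.b +
    (σ x.b + σ y.b) * (x.a * y.b - y.a * x.b) := by simp [commutatorElement_def, σc]; ring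

theorem exists_mk (a b d f : K) {c : K} (h : c + σ c + b * σ b = 0) :
    ∃ x : U K, x.a = a ∧ x.b = b ∧ x.c = c ∧ x.d = d ∧ x.f = f := by
  obtain ⟨z, hz⟩ := isb.exists_trace_eq (s := -(a * σ f + f * σ a + d * σ d)) (by simp; ring)
  exact ⟨⟨a, b, c, d, f, z, h, by linear_combination hz⟩, rfl, rfl, rfl, rfl, rfl⟩

theorem exists_c (b : K) : ∃ c : K, c + σ c + b * σ b = 0 := by
  obtain ⟨c, hc⟩ := isb.exists_trace_eq (s := -(b * σ b)) (by simp; ring)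
  exact ⟨c, by linear_combination hc⟩

end U

open U

variable (K)

/-- `a = 0`, order `q ^ 8`. -/
def Q2 : Subgroup (U K) where
  carrier := {x | x.a = 0}
  mul_mem' := fun {x y} (hx : x.a = 0) (hy : y.a = 0) => show (x * y).a = 0 by simp [hx, hy]
  one_mem' := rfl
  inv_mem' := fun {x} (hx : x.a = 0) => show x⁻¹.a = 0 by simp [hx]

/-- `b = 0`, order `q ^ 8`. -/
def sR : Subgroup (U K) where
  carrier := {x | x.b = 0}
  mul_mem' := fun {x y} (hx : x.b = 0) (hy : y.b = 0) => show (x * y).b = 0 by simp [hx, hy]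
  one_mem' := rfl
  inv_mem' := fun {x} (hx : x.b = 0) => show x⁻¹.b = 0 by simp [hx]

/-- `b = c = 0`, order `q ^ 7`. -/
def Q1 : Subgroup (U K) where
  carrier := {x | x.b = 0 ∧ x.c = 0}
  mul_mem' := fun {x y} hx hy => ⟨by simp [hx.1, hy.1], by simp [hx.1, hx.2, hy.2]⟩
  one_mem' := ⟨rfl, rfl⟩
  inv_mem' := fun {x} hx => ⟨by simp [hx.1], by simp [hx.2]⟩

/-- `a = b = 0`, the derived subgroup, order `q ^ 6`. -/
def sD : Subgroup (U K) := Q2 K ⊓ sR K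

/-- `a = b = c = 0`, order `q ^ 5`. -/
def sP : Subgroup (U K) := Q2 K ⊓ Q1 K

/-- `a = b = d = 0`, the centre of `Q2`, order `q ^ 4`. -/
def sV : Subgroup (U K) where
  carrier := {x | x.a = 0 ∧ x.b = 0 ∧ x.d = 0}
  mul_mem' := fun {x y} hx hy => ⟨by simp [hx.1, hy.1], by simp [hx.2.1, hy.2.1], by simp [hx.1, hx.2.2, hy.2.2]⟩
  one_mem' := ⟨rfl, rfl, rfl⟩
  inv_mem' := fun {x} hx => ⟨by simp [hx.1], by simp [hx.2.1], by simp [hx.1, hx.2.2]⟩

/-- `a = b = c = d = 0`, the second centre, order `q ^ 3`. -/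
def sY : Subgroup (U K) := sV K ⊓ Q1 K

/-- The centre, order `q`. -/
def sZ : Subgroup (U K) where
  carrier := {x | x.a = 0 ∧ x.b = 0 ∧ x.c = 0 ∧ x.d = 0 ∧ x.f = 0}
  mul_mem' := fun {x y} ⟨h1, h2, h3, h4, h5⟩ ⟨k1, k2, k3, k4, k5⟩ => by simp [*]
  one_mem' := ⟨rfl, rfl, rfl, rfl, rfl⟩
  inv_mem' := fun {x} ⟨h1, h2, h3, h4, h5⟩ => by simp [*]

variable {K} {x y : U K}

@[simp] theorem mem_Q2 : x ∈ Q2 K ↔ x.a = 0 := Iff.rfl
@[simp] theorem mem_sR : x ∈ sR K ↔ x.b = 0 := Iff.rfl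
@[simp] theorem mem_Q1 : x ∈ Q1 K ↔ x.b = 0 ∧ x.c = 0 := Iff.rfl
@[simp] theorem mem_sD : x ∈ sD K ↔ x.a = 0 ∧ x.b = 0 := Iff.rfl
@[simp] theorem mem_sP : x ∈ sP K ↔ x.a = 0 ∧ x.b = 0 ∧ x.c = 0 := Iff.rfl
@[simp] theorem mem_sV : x ∈ sV K ↔ x.a = 0 ∧ x.b = 0 ∧ x.d = 0 := Iff.rfl
@[simp] theorem mem_sY : x ∈ sY K ↔ x.a = 0 ∧ x.b = 0 ∧ x.c = 0 ∧ x.d = 0 :=
  ⟨fun h => ⟨h.1.1, h.1.2.1, h.2.2, h.1.2.2⟩, fun h => ⟨⟨h.1, h.2.1, h.2.2.2⟩, h.2.1, h.2.2.1⟩⟩
@[simp] theorem mem_sZ : x ∈ sZ K ↔ x.a = 0 ∧ x.b = 0 ∧ x.c = 0 ∧ x.d = 0 ∧ x.f = 0 := Iff.rfl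

instance normal_Q2 : (Q2 K).Normal := ⟨fun x hx s => by simpa using hx⟩
instance normal_sR : (sR K).Normal := ⟨fun x hx s => by simpa using hx⟩
instance normal_Q1 : (Q1 K).Normal := ⟨fun x hx s => ⟨by simp [hx.1], by simp [hx.1, hx.2, σc]; ring⟩⟩
instance normal_sV : (sV K).Normal :=
  ⟨fun x hx s => ⟨by simp [hx.1], by simp [hx.2.1], by simp [hx.1, hx.2.1, hx.2.2]⟩⟩
instance normal_sD : (sD K).Normal := Subgroup.normal_inf_normal _ _
instance normal_sP : (sP K).Normal := Subgroup.normal_inf_normal _ _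
instance normal_sY : (sY K).Normal := Subgroup.normal_inf_normal _ _
instance normal_sZ : (sZ K).Normal := ⟨fun x ⟨h1, h2, h3, h4, h5⟩ s => by simp [*, σc]; constructor <;> ring⟩

theorem comm_of_sZ (h : x ∈ sZ K) (s : U K) : s * x = x * s := by
  obtain ⟨h1, h2, h3, h4, h5⟩ := h
  ext <;> simp [*] <;> ring
theorem comm_of_sV (h : x ∈ sV K) (h' : y ∈ Q2 K) : y * x = x * y := by
  obtain ⟨h1, h2, h3⟩ := h
  have : y.a = 0 := h'
  ext <;> simp [*] <;> ring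
theorem cm_mem_sD (x y : U K) : ⁅x, y⁆ ∈ sD K := ⟨cm_a x y, cm_b x y⟩
theorem cm_sD (h : x ∈ sD K) (y : U K) : ⁅x, y⁆ ∈ sY K := by
  simp [cm_a, cm_b, cm_c, cm_d, h.1, show x.b = 0 from h.2, show x.a = 0 from h.1]
theorem cm_f_sD (h : x ∈ sD K) (y : U K) : ⁅x, y⁆.f = -(y.a * x.c + x.d * σ y.b) := by
  simp [cm_f, show x.b = 0 from h.2, show x.a = 0 from h.1]; ring
theorem cm_sY (h : x ∈ sY K) (y : U K) : ⁅x, y⁆ ∈ sZ K := by
  obtain ⟨h1, h2, h3, h4⟩ := mem_sY.1 h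
  simp [cm_a, cm_b, cm_c, cm_d, cm_f, *]
theorem cm_z_sY (h : x ∈ sY K) (y : U K) : ⁅x, y⁆.z = y.a * σ x.f - x.f * σ y.a := by
  obtain ⟨h1, h2, h3, h4⟩ := mem_sY.1 h
  simp [commutatorElement_def, σc, σz, *]; ring
theorem cm_Q1 (h : x ∈ Q1 K) (h' : y ∈ Q1 K) : ⁅x, y⁆ ∈ sZ K := by
  simp [cm_a, cm_b, cm_c, cm_d, cm_f, h.1, h.2, h'.1, h'.2]
theorem cm_Q2 (h : x ∈ Q2 K) (h' : y ∈ Q2 K) : ⁅x, y⁆ ∈ sV K := by
  simp [cm_a, cm_b, cm_d, mem_Q2.1 h, mem_Q2.1 h']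
theorem cm_z_Q2 (h : x ∈ Q2 K) (h' : y ∈ Q2 K) : ⁅x, y⁆.z = y.d * σ x.d - x.d * σ y.d := by
  simp [commutatorElement_def, σc, σz, mem_Q2.1 h, mem_Q2.1 h']; ring
theorem cm_sR (h : x ∈ sR K) (h' : y ∈ sR K) : ⁅x, y⁆ ∈ sY K := by
  simp [cm_a, cm_b, cm_c, cm_d, mem_sR.1 h, mem_sR.1 h']

/-! ### Diagonal and field automorphisms -/

variable (K) in
/-- The diagonal and field automorphisms. -/
@[ext] structure Tw where
  l : Kˣ
  m : Kˣ
  τ : K ≃+* K

namespace Tw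

instance instMul : Mul (Tw K) := ⟨fun s t =>
  ⟨s.l * Units.map (s.τ : K →* K) t.l, s.m * Units.map (s.τ : K →* K) t.m, s.τ * t.τ⟩⟩
instance instOne : One (Tw K) := ⟨⟨1, 1, 1⟩⟩
instance instInv : Inv (Tw K) := ⟨fun s =>
  ⟨Units.map (s.τ.symm : K →* K) s.l⁻¹, Units.map (s.τ.symm : K →* K) s.m⁻¹, s.τ⁻¹⟩⟩
variable (s t : Tw K)
@[simp] theorem mul_l : ((s * t).l : K) = s.l * s.τ t.l := rfl
@[simp] theorem mul_m : ((s * t).m : K) = s.m * s.τ t.m := rfl
@[simp] theorem mul_τ : (s * t).τ = s.τ * t.τ := rfl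
@[simp] theorem one_l : (1 : Tw K).l = 1 := rfl
@[simp] theorem one_m : (1 : Tw K).m = 1 := rfl
@[simp] theorem one_τ : (1 : Tw K).τ = 1 := rfl
@[simp] theorem inv_l : (s⁻¹.l : K) = s.τ.symm (s.l : K)⁻¹ := by rw [← Units.val_inv_eq_inv_val]; rfl
@[simp] theorem inv_m : (s⁻¹.m : K) = s.τ.symm (s.m : K)⁻¹ := by rw [← Units.val_inv_eq_inv_val]; rfl
@[simp] theorem inv_τ : s⁻¹.τ = s.τ⁻¹ := rfl
theorem τ_mul (α β : K ≃+* K) (x : K) : (α * β) x = α (β x) := rfl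
theorem τ_inv (α : K ≃+* K) (x : K) : α⁻¹ x = α.symm x := rfl

instance instGroup : Group (Tw K) := Group.ofLeftAxioms
  (fun x y z => by ext <;> simp [τ_mul, mul_assoc]) (fun x => by ext <;> simp)
  (fun x => by ext <;> simp [τ_inv, ← map_mul])

instance instFinite : Finite (Tw K) :=
  haveI : Finite (K ≃+* K) := .of_injective (fun α => (α : K → K)) DFunLike.coe_injective
  .of_injective (fun t : Tw K => (t.l, t.m, t.τ)) fun x y h => by
    simp only [Prod.mk.injEq] at h; exact Tw.ext h.1 h.2.1 h.2.2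

/-- The action on `U`. -/
def act (x : U K) : U K :=
  ⟨t.l * t.τ x.a, t.m * t.τ x.b, t.m * σ (t.m : K) * t.τ x.c, t.l * t.m * t.τ x.d,
    t.l * t.m * σ (t.m : K) * t.τ x.f, t.l * σ (t.l : K) * t.m * σ (t.m : K) * t.τ x.z, by
    have := congrArg t.τ x.hc
    simp only [map_add, map_mul, map_zero, σσ, σ_ringAut] at this ⊢
    linear_combination t.m * σ (t.m : K) * this, by
    have := congrArg t.τ x.hz
    simp only [map_add, map_mul, map_zero, σσ, σ_ringAut] at this ⊢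
    linear_combination t.l * σ (t.l : K) * t.m * σ (t.m : K) * this⟩

theorem act_mul (x : U K) : (s * t).act x = s.act (t.act x) := by
  ext <;> simp [act, τ_mul, σ_ringAut] <;> ring
theorem act_one (x : U K) : (1 : Tw K).act x = x := by ext <;> simp [act]

end Tw

/-- The diagonal and field automorphisms of `U`. -/
def tw : Tw K →* MulAut (U K) := MonoidHom.mk' (fun t =>
  { toFun := t.act
    invFun := t⁻¹.act
    left_inv := fun x => by rw [← Tw.act_mul, inv_mul_cancel, Tw.act_one]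
    right_inv := fun x => by rw [← Tw.act_mul, mul_inv_cancel, Tw.act_one]
    map_mul' := fun x y => by ext <;> simp [Tw.act, σ_ringAut] <;> ring })
  fun s t => MulEquiv.ext (Tw.act_mul s t)

variable (t : Tw K) (x : U K)
@[simp] theorem tw_a : (tw t x).a = t.l * t.τ x.a := rfl
@[simp] theorem tw_b : (tw t x).b = t.m * t.τ x.b := rfl
@[simp] theorem tw_c : (tw t x).c = t.m * σ (t.m : K) * t.τ x.c := rfl
@[simp] theorem tw_d : (tw t x).d = t.l * t.m * t.τ x.d := rfl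
@[simp] theorem tw_f : (tw t x).f = t.l * t.m * σ (t.m : K) * t.τ x.f := rfl
@[simp] theorem tw_z : (tw t x).z = t.l * σ (t.l : K) * t.m * σ (t.m : K) * t.τ x.z := rfl

/-- Conjugation by `diag (u, v / u, σv / v, σu / σv, 1 / σu) ∈ SU₅`. -/
def dg (u v : Kˣ) : Tw K := ⟨u ^ 2 / v, v ^ 2 / (u * Units.map (σ : K →+* K) v), 1⟩
@[simp] theorem dg_l (u v : Kˣ) : ((dg u v).l : K) = u ^ 2 / v := by simp [dg]
@[simp] theorem dg_m (u v : Kˣ) : ((dg u v).m : K) = v ^ 2 / (u * σ (v : K)) := by simp [dg]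
@[simp] theorem dg_τ (u v : Kˣ) : (dg u v).τ = 1 := rfl
theorem dg_mul (u v u' v' : Kˣ) : dg (u * u') (v * v') = dg u v * dg u' v' := by
  ext <;> simp <;> field_simp

variable (K)

/-- The Weyl element of `N(Q1)`. -/
def W1 : MulAut (Q1 K) where
  toFun x := ⟨⟨x.1.f, 0, 0, -x.1.d, x.1.a, x.1.z, by simp, by simp; linear_combination x.1.hz⟩, rfl, rfl⟩
  invFun x := ⟨⟨x.1.f, 0, 0, -x.1.d, x.1.a, x.1.z, by simp, by simp; linear_combination x.1.hz⟩, rfl, rfl⟩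
  left_inv x := by ext <;> simp [x.2.1, x.2.2]
  right_inv x := by ext <;> simp [x.2.1, x.2.2]
  map_mul' x y := by ext <;> simp [x.2.1, x.2.2, y.2.1, y.2.2] <;> ring

/-- The Weyl element of `N(Q2)`. -/
def W2 : MulAut (Q2 K) where
  toFun x := ⟨⟨0, -x.1.d, x.1.z, x.1.b, σ x.1.f + x.1.b * σ x.1.d, x.1.c,
    by have := x.1.hz; rw [mem_Q2.1 x.2] at this; simp at this ⊢; linear_combination this,
    by simp; linear_combination x.1.hc⟩, rfl⟩
  invFun x := ⟨⟨0, x.1.d, x.1.z, -x.1.b, σ x.1.f + x.1.b * σ x.1.d, x.1.c,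
    by have := x.1.hz; rw [mem_Q2.1 x.2] at this; simp at this ⊢; linear_combination this,
    by simp; linear_combination x.1.hc⟩, rfl⟩
  left_inv x := by ext <;> simp [mem_Q2.1 x.2] <;> ring
  right_inv x := by ext <;> simp [mem_Q2.1 x.2] <;> ring
  map_mul' x y := by ext <;> simp [mem_Q2.1 x.2, mem_Q2.1 y.2] <;> ring

variable {K}
theorem W1_val (x : Q1 K) : (W1 K x).1.a = x.1.f ∧ (W1 K x).1.d = -x.1.d ∧ (W1 K x).1.f = x.1.a ∧
    (W1 K x).1.z = x.1.z := ⟨rfl, rfl, rfl, rfl⟩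
theorem W2_val (x : Q2 K) : (W2 K x).1.b = -x.1.d ∧ (W2 K x).1.c = x.1.z ∧ (W2 K x).1.d = x.1.b ∧
    (W2 K x).1.f = σ x.1.f + x.1.b * σ x.1.d ∧ (W2 K x).1.z = x.1.c := ⟨rfl, rfl, rfl, rfl, rfl⟩

end Cfsg.Lib.U5F
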